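import Cfsg.Agent.EightCore.Rows.Basic
import Cfsg.Agent.EqualOrder.Classify

/-!
# The consumers of the core theorem: automisers of Sylow 2-subgroups of order 32
-/

set_option autoImplicit false
set_option linter.unusedSectionVars false
set_option linter.style.haveILetI false

namespace CfsgLib.EightCore.Rows

open Subgroup

universe u

variable {G : Type u} [Group G] [Finite G]

/-- The automiser of a Sylow subgroup of order `32` in the semiaffine case. -/
structure Auto32 (S : Sylow 2 G) : Prop where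
  fixed : ∀ g ∈ normalizer ((S : Subgroup G) : Set G), ∀ s ∈ (S : Subgroup G), ∀ t ∈ (S : Subgroup G),
    s ≠ 1 → t ≠ 1 → s ≠ t → Commute g s → Commute g t → g ∈ centralizer ((S : Subgroup G) : Set G)
  five : ∀ t ∈ (S : Subgroup G), t ≠ 1 → ∀ A : Subgroup G, A ≤ normalizer ((S : Subgroup G) : Set G) →
    A ≤ centralizer ({t} : Set G) → (centralizer ((S : Subgroup G) : Set G)).relIndex A ∣ 5

theorem card_semiaffine_32 : Nat.card (Cfsg.semiaffineGroup (GaloisField 2 5)) = 32 * 155 := by
  haveI := ConjP.finite_field (p := 2) (n := 5) (by norm_num)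
  haveI : Finite (Cfsg.semiaffineGroup (GaloisField 2 5)) := Subtype.finite
  have hle : Nat.card (Cfsg.semiaffineGroup (GaloisField 2 5)) ≤ 32 * 155 :=
    (ConjP.card_semiaffine_le (p := 2) (n := 5) (by norm_num)).trans (le_of_eq (by norm_num))
  have h32 : 32 ∣ Nat.card (Cfsg.semiaffineGroup (GaloisField 2 5)) := by
    let ι : Multiplicative (GaloisField 2 5) →* Cfsg.semiaffineGroup (GaloisField 2 5) :=
      { toFun := fun b => ⟨Equiv.addRight b.toAdd, 1, b.toAdd, RingEquiv.refl _, fun x => by simp⟩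
        map_one' := Subtype.ext (Equiv.ext fun x => by simp)
        map_mul' := fun a b => Subtype.ext (Equiv.ext fun x => by simp [add_assoc, add_comm a.toAdd]) }
    have hι : Function.Injective ι := fun a b h => by
      have := Equiv.congr_fun (congrArg Subtype.val h) 0
      simpa [ι] using this
    refine dvd_trans (dvd_of_eq ?_) (Subgroup.card_dvd_of_injective ι hι)
    rw [Nat.card_congr Multiplicative.toAdd, EqOrder.card_field (by norm_num)]
    norm_num
  have h31 : 31 ∣ Nat.card (Cfsg.semiaffineGroup (GaloisField 2 5)) := by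
    let ι : (GaloisField 2 5)ˣ →* Cfsg.semiaffineGroup (GaloisField 2 5) :=
      { toFun := fun a => ⟨a.mulLeft, a, 0, RingEquiv.refl _, fun x => by simp⟩
        map_one' := Subtype.ext (Equiv.ext fun x => by simp)
        map_mul' := fun a b => Subtype.ext (Equiv.ext fun x => by simp [mul_assoc]) }
    have hι : Function.Injective ι := fun a b h => by
      have := Equiv.congr_fun (congrArg Subtype.val h) 1
      exact Units.ext (by simpa [ι] using this)
    refine dvd_trans (dvd_of_eq ?_) (Subgroup.card_dvd_of_injective ι hι)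
    rw [ConjP.card_units_field (by norm_num)]
    norm_num
  have h5 := EqOrder.five_dvd_semiaffine
  have h : 32 * 31 * 5 ∣ Nat.card (Cfsg.semiaffineGroup (GaloisField 2 5)) :=
    Nat.Coprime.mul_dvd_of_dvd_of_dvd (by norm_num)
      (Nat.Coprime.mul_dvd_of_dvd_of_dvd (by norm_num) h32 h31) h5
  have := Nat.le_of_dvd Nat.card_pos h
  omega

section Fixed

variable {V : Type u} [Group V] [Finite V] (hV : Nat.card V = 32)

include hV in
/-- The fixed points of automorphisms of order `5` or `31`. -/
theorem fixed_prime {α : MulAut V} {r : ℕ} [hr : Fact r.Prime] (hα : orderOf α = r) (h155 : r ∣ 155) :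
    Nat.card (MonoidHom.eqLocus α.toMonoidHom (MonoidHom.id V)) = 1 ∨
      (r = 5 ∧ Nat.card (MonoidHom.eqLocus α.toMonoidHom (MonoidHom.id V)) = 2) := by
  set F := MonoidHom.eqLocus α.toMonoidHom (MonoidHom.id V)
  have hP : IsPGroup r (zpowers α) := IsPGroup.of_card (n := 1) (by rw [Nat.card_zpowers, hα, pow_one])
  have hmod := hP.card_modEq_card_fixedPoints V
  have hfix : Nat.card (MulAction.fixedPoints (zpowers α) V) = Nat.card F := by
    refine Nat.card_congr (Equiv.subtypeEquivRight fun x => ⟨fun hx => hx ⟨α, mem_zpowers α⟩, ?_⟩)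
    rintro hx ⟨β, hβ⟩
    obtain ⟨i, rfl⟩ := mem_zpowers_iff.1 hβ
    have hx' : α ∈ MulAction.stabilizer (MulAut V) x := hx
    exact (zpow_mem hx' i :)
  rw [hfix, hV] at hmod
  obtain ⟨d, hd, hF⟩ := (Nat.dvd_prime_pow Nat.prime_two).1
    (show Nat.card F ∣ 2 ^ 5 by rw [show 2 ^ 5 = Nat.card V by rw [hV]; norm_num]; exact card_subgroup_dvd_card F)
  have hr' : r = 5 ∨ r = 31 := by
    rcases (hr.out.dvd_mul).1 (show r ∣ 5 * 31 from h155) with e | e
    · exact Or.inl ((Nat.prime_dvd_prime_iff_eq hr.out Nat.prime_five).1 e)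
    · exact Or.inr ((Nat.prime_dvd_prime_iff_eq hr.out (by norm_num)).1 e)
  have htop : Nat.card F ≠ 32 := by
    intro h
    have hFt : F = ⊤ := eq_top_of_card_eq F (h.trans hV.symm)
    have h1 : α = 1 := MulEquiv.ext fun x => (hFt ▸ mem_top x : x ∈ F)
    rw [h1, orderOf_one] at hα
    exact hr.out.one_lt.ne hα
  rw [hF] at hmod htop ⊢
  rcases hr' with rfl | rfl <;> interval_cases d <;> simp_all [Nat.ModEq]

end Fixed

/-- The facts used below about a Sylow subgroup of order 32. -/
theorem auto32 (S : Sylow 2 G) (hS : ∀ x ∈ (S : Subgroup G), x * x = 1)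
    (hc : Nat.card (S : Subgroup G) = 32)
    (hq : Nonempty (↥(normalizer ((S : Subgroup G) : Set G)) ⧸
      Cfsg.pPrimeCore 2 ↥(normalizer ((S : Subgroup G) : Set G)) ≃*
        Cfsg.semiaffineGroup (GaloisField 2 5))) : Auto32 S := by
  haveI : Fact (Nat.Prime 2) := ⟨Nat.prime_two⟩
  obtain ⟨q⟩ := hq
  set N := normalizer ((S : Subgroup G) : Set G) with hN
  set f : N →* MulAut (S : Subgroup G) := (S : Subgroup G).normalizerMonoidHom
  have hf : ∀ (g : N) (x : (S : Subgroup G)), ((f g x : (S : Subgroup G)) : G) = g * x * (g : G)⁻¹ :=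
    fun _ _ => rfl
  have hcomm : ∀ {g : N}, g ∈ f.ker ↔ (g : G) ∈ centralizer ((S : Subgroup G) : Set G) := by
    intro g
    rw [MonoidHom.mem_ker, mem_centralizer_iff]
    constructor
    · intro h x hx
      have := congrArg (fun e : MulAut (S : Subgroup G) => ((e ⟨x, hx⟩ : (S : Subgroup G)) : G)) h
      simp only [hf, MulAut.one_apply] at this
      exact (mul_inv_eq_iff_eq_mul.1 this).symm
    · intro h
      refine MulEquiv.ext fun x => Subtype.ext ?_
      rw [hf, MulAut.one_apply, ← h x x.2, mul_inv_cancel_right]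
  set O := Cfsg.pPrimeCore 2 N
  obtain ⟨hOn, hOc⟩ := CfsgLib.Solvable.pPrimeCore_spec (G := N) (p := 2)
  set Q : Sylow 2 N := S.subtype le_normalizer
  haveI : (Q : Subgroup N).Normal := (normal_subgroupOf_iff_le_normalizer le_normalizer).2 le_rfl
  have hQker : (Q : Subgroup N) ≤ f.ker := fun g hg => hcomm.2 (mem_centralizer_iff.2 fun x hx =>
    (EqOrder.sylow_comm S hS hx (mem_subgroupOf.1 hg)).eq)
  have hOker : O ≤ f.ker := by
    intro g hg
    refine hcomm.2 (mem_centralizer_iff.2 fun x hx => ?_)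
    have hd : O ⊓ (Q : Subgroup N) = ⊥ := inf_eq_bot_of_coprime (by
      rw [show Nat.card (Q : Subgroup N) = 2 ^ 5 by
        rw [show (Q : Subgroup N) = (S : Subgroup G).subgroupOf N from rfl,
          Nat.card_congr (subgroupOfEquivOfLe le_normalizer).toEquiv, hc]; norm_num]
      exact hOc.pow_right 5)
    have h := commute_of_normal_of_disjoint O (Q : Subgroup N) hOn inferInstance (disjoint_iff.2 hd) g
      ⟨x, le_normalizer hx⟩ hg hx
    exact (congrArg Subtype.val h.eq).symm
  have h155 : Nat.card f.range ∣ 155 := by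
    have h1 : Nat.card f.range ∣ 32 * 155 := by
      rw [← index_ker, ← card_semiaffine_32, ← Nat.card_congr q.toEquiv, ← index_eq_card]
      exact index_dvd_of_le hOker
    refine (Nat.Coprime.dvd_mul_left ?_).1 h1
    rw [← index_ker, show (32 : ℕ) = 2 ^ 5 by norm_num]
    refine ((Nat.Prime.coprime_iff_not_dvd Nat.prime_two).2 fun h2 => Q.not_dvd_index ?_).symm.pow_right 5
    exact h2.trans (index_dvd_of_le hQker)
  have key : ∀ g : N, f g ≠ 1 → ∀ F : Subgroup (S : Subgroup G), (∀ x ∈ F, f g x = x) →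
      Nat.card F ≤ 2 ∧ (Nat.card F = 2 → orderOf (f g) ∣ 5) := by
    intro g hg1 F hF
    have ho : orderOf (f g) ∣ 155 :=
      ((Subgroup.orderOf_dvd_natCard f.range (show f g ∈ f.range from ⟨g, rfl⟩)).trans h155)
    have aux : ∀ r : ℕ, r.Prime → r ∣ orderOf (f g) →
        Nat.card F = 1 ∨ (r = 5 ∧ Nat.card F ≤ 2) := by
      intro r hr hrd
      haveI := Fact.mk hr
      set α := f g ^ (orderOf (f g) / r)
      have hα : orderOf α = r := by
        rw [orderOf_pow_of_dvd (Nat.div_pos (Nat.le_of_dvd (orderOf_pos _) hrd) hr.pos).ne'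
          (Nat.div_dvd_of_dvd hrd), Nat.div_div_self hrd (orderOf_pos _).ne']
      have hle : F ≤ MonoidHom.eqLocus α.toMonoidHom (MonoidHom.id _) := fun x hx => by
        show α x = x
        have : f g ∈ MulAction.stabilizer (MulAut (S : Subgroup G)) x := hF x hx
        exact (pow_mem this _ :)
      have h1 := Subgroup.card_le_of_le hle
      rcases fixed_prime hc hα (hrd.trans ho) with e | ⟨e1, e2⟩
      · left
        rw [e] at h1
        have := Nat.card_pos (α := F)
        omega
      · exact Or.inr ⟨e1, by rw [e2] at h1; exact h1⟩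
    refine ⟨?_, fun h2 => ?_⟩
    · obtain ⟨r, hr, hrd⟩ := Nat.exists_prime_and_dvd (fun h => hg1 (orderOf_eq_one_iff.1 h))
      rcases aux r hr hrd with e | ⟨-, e⟩ <;> omega
    · have hnot : ¬ 31 ∣ orderOf (f g) := fun h31 => by
        rcases aux 31 (by norm_num) h31 with e | ⟨e, -⟩ <;> omega
      exact ((Nat.Prime.coprime_iff_not_dvd (by norm_num)).2 hnot).symm.dvd_of_dvd_mul_right
        (show orderOf (f g) ∣ 5 * 31 from ho)
  refine ⟨fun g hg s hs t ht hs1 ht1 hst hgs hgt => ?_, fun t ht ht1 A hAN hAt => ?_⟩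
  · by_contra hgc
    set g' : N := ⟨g, hg⟩
    have h1 : f g' ≠ 1 := fun e => hgc (hcomm.1 (MonoidHom.mem_ker.2 e))
    set F := MonoidHom.eqLocus (f g').toMonoidHom (MonoidHom.id (S : Subgroup G))
    have hm : ∀ x : (S : Subgroup G), Commute g (x : G) → x ∈ F := fun x hx => Subtype.ext (by
      show g * (x : G) * g⁻¹ = x
      rw [hx.eq, mul_inv_cancel_right])
    have h3 : 3 ≤ Nat.card F := by
      classical
      haveI := Fintype.ofFinite F
      rw [Nat.card_eq_fintype_card]
      refine le_of_eq_of_le (Finset.card_eq_three.2 ⟨(1 : F), ⟨⟨s, hs⟩, hm _ hgs⟩, ⟨⟨t, ht⟩, hm _ hgt⟩,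
        ?_, ?_, ?_, rfl⟩).symm (Finset.card_le_univ _)
      · exact fun e => hs1 (congrArg (fun z : F => ((z : (S : Subgroup G)) : G)) e).symm
      · exact fun e => ht1 (congrArg (fun z : F => ((z : (S : Subgroup G)) : G)) e).symm
      · exact fun e => hst (congrArg (fun z : F => ((z : (S : Subgroup G)) : G)) e)
    have := (key g' h1 F fun x hx => hx).1
    omega
  · set fA : A →* MulAut (S : Subgroup G) := f.comp (inclusion hAN)
    have hkerA : fA.ker = (centralizer ((S : Subgroup G) : Set G)).subgroupOf A := by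
      ext a
      exact hcomm (g := inclusion hAN a)
    rw [relIndex, ← hkerA, index_ker]
    have h1 : Nat.card fA.range ∣ 155 := (card_dvd_of_le (show fA.range ≤ f.range by rintro _ ⟨a, rfl⟩; exact ⟨_, rfl⟩)).trans h155
    refine ((Nat.Prime.coprime_iff_not_dvd (by norm_num : Nat.Prime 31)).2 fun h31 => ?_).symm.dvd_of_dvd_mul_right
      (show Nat.card fA.range ∣ 5 * 31 from h1)
    haveI : Fact (Nat.Prime 31) := ⟨by norm_num⟩
    obtain ⟨⟨b, a, rfl⟩, hb⟩ := exists_prime_orderOf_dvd_card' (G := fA.range) 31 h31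
    rw [← orderOf_coe] at hb
    change orderOf (fA a) = 31 at hb
    have hne : fA a ≠ 1 := fun e => by rw [e, orderOf_one] at hb; omega
    set F := zpowers (⟨t, ht⟩ : (S : Subgroup G))
    have hFc : Nat.card F = 2 := by
      rw [Nat.card_zpowers, ← orderOf_coe]
      exact orderOf_eq_prime (by rw [pow_two]; exact hS t ht) ht1
    have hFfix : ∀ x ∈ F, fA a x = x := by
      intro x hx
      obtain ⟨i, rfl⟩ := mem_zpowers_iff.1 hx
      rw [map_zpow]
      congr 1
      refine Subtype.ext ?_
      show (a : G) * t * (a : G)⁻¹ = t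
      rw [mem_centralizer_singleton_iff.1 (hAt a.2), mul_inv_cancel_right]
    have h5 := (key (inclusion hAN a) hne F hFfix).2 hFc
    change orderOf (fA a) ∣ 5 at h5
    rw [hb] at h5
    norm_num at h5

end CfsgLib.EightCore.Rows
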