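import Cfsg.Agent.EightCore.AutConj
import Cfsg.Agent.EqualOrder.Elementary
import Cfsg.Agent.S0201
import Cfsg.Agent.S0205

/-!
# The consumers of the core theorem: Sylow 2-subgroups
-/

set_option autoImplicit false
set_option linter.unusedSectionVars false
set_option linter.style.haveILetI false

namespace CfsgLib.EightCore.Rows

open Subgroup

universe u

variable {G : Type u} [Group G]

theorem autConj_self (h : PAbConj G) : AutConj G := by
  intro p hp A B hA hB hAc hBc hc
  obtain ⟨g, hg⟩ := h p hp A B hA hB hAc hBc hc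
  exact ⟨MulAut.conj g, hg⟩

variable [Finite G]

/-- An element conjugate up to a generator to an element of a normal subgroup lies in it. -/
theorem mem_of_orderOf (h : PAbConj G) {N : Subgroup G} [N.Normal] {p k : ℕ} [hp : Fact p.Prime] {x y : G}
    (hxN : x ∈ N) (hx : orderOf x = p ^ k) (hy : orderOf y = p ^ k) : y ∈ N := by
  have hP : ∀ z : G, orderOf z = p ^ k → IsPGroup p (zpowers z) := fun z hz =>
    IsPGroup.of_card (by rw [Nat.card_zpowers, hz])
  obtain ⟨g, hg⟩ := h p hp.out (zpowers x) (zpowers y) (hP x hx) (hP y hy) inferInstance inferInstance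
    (by rw [Nat.card_zpowers, Nat.card_zpowers, hx, hy])
  obtain ⟨w, hw, hwy⟩ : y ∈ (zpowers x).map (MulAut.conj g).toMonoidHom := hg ▸ mem_zpowers y
  rw [← hwy]
  exact Normal.conj_mem inferInstance w ((zpowers_le.2 hxN) hw) g

/-- A simple group which is not abelian has a four group. -/
theorem exists_pair {L : Type u} [Group L] [Finite L] [IsSimpleGroup L] (hna : ¬ IsMulCommutative L) :
    ∃ a b : L, Pair 2 a b := by
  haveI : Fact (Nat.Prime 2) := ⟨Nat.prime_two⟩
  have hns : ¬ Group.IsSolvable L := fun hs => hna ⟨⟨IsSimpleGroup.comm_iff_isSolvable.2 hs⟩⟩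
  obtain ⟨S⟩ : Nonempty (Sylow 2 L) := inferInstance
  by_contra hno
  push Not at hno
  have hu : ∀ x y : (S : Subgroup L), orderOf x = 2 → orderOf y = 2 → y ∈ zpowers x := by
    intro x y hx hy
    obtain ⟨z, hzS, hz, hzc⟩ := EqOrder.exists_central_order 2 S.2 x.2 (by rw [orderOf_coe]; exact hx)
    have key : ∀ c : (S : Subgroup L), orderOf c = 2 → (c : L) ∈ zpowers z := fun c hc => by
      by_contra hcz
      exact hno z c ⟨hz, by rw [orderOf_coe]; exact hc, hzc c c.2, hcz⟩
    have e : zpowers (x : L) = zpowers z := eq_of_le_of_card_ge (zpowers_le.2 (key x hx))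
      (by rw [Nat.card_zpowers, Nat.card_zpowers, hz, orderOf_coe, hx])
    obtain ⟨i, hi⟩ := mem_zpowers_iff.1 (e ▸ key y hy)
    exact mem_zpowers_iff.2 ⟨i, Subtype.ext (by simpa using hi)⟩
  rcases UniqueInvol.cyclic_or_quaternion S.2 hu with hc | ⟨-, n, hn, ⟨e⟩⟩
  · obtain ⟨R, hR, hRo, hall⟩ := DGroup.exists_compl_of_cyclic S hc
    haveI := hR
    exact hns (DGroup.solvable_of_odd_mem R hRo hall)
  · obtain ⟨m, rfl⟩ : ∃ m, n = m + 1 := ⟨n - 1, by omega⟩
    have hodd : ∀ N : Subgroup L, N.Normal → Odd (Nat.card N) → N = ⊥ := by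
      intro N hN ho
      refine hN.eq_bot_or_eq_top.resolve_right fun htop => hns ?_
      rw [htop, card_top] at ho
      exact Cfsg.Agent.S0205.result ho
    have hZ := Cfsg.Agent.S0201.result S m e hodd
    rcases (inferInstance : (center L).Normal).eq_bot_or_eq_top with hb | ht
    · rw [hb, card_bot] at hZ; omega
    · exact hna ⟨⟨fun a b => mem_center_iff.1 (ht ▸ mem_top b) a⟩⟩

theorem Pair.map {L : Type*} [Group L] (f : L →* G) (hf : Function.Injective f) {p : ℕ} {a b : L}
    (h : Pair p a b) : Pair p (f a) (f b) := by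
  refine ⟨(orderOf_injective f hf a).trans h.ha, (orderOf_injective f hf b).trans h.hb, h.comm.map f, ?_⟩
  intro hb
  obtain ⟨i, hi⟩ := mem_zpowers_iff.1 hb
  exact h.indep (mem_zpowers_iff.2 ⟨i, hf (by rw [map_zpow]; exact hi)⟩)

theorem four_dvd_sylow {a b : G} (h : Pair 2 a b) (S : Sylow 2 G) : 4 ∣ Nat.card (S : Subgroup G) := by
  haveI : Fact (Nat.Prime 2) := ⟨Nat.prime_two⟩
  obtain ⟨P, hP⟩ := h.isPGroup.exists_le_sylow
  have := card_dvd_of_le hP
  rw [h.card, Nat.card_congr (P.equiv S).toEquiv] at this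
  exact this

/-- The Sylow 2-subgroups are elementary and lie in every nontrivial even normal subgroup. -/
theorem elementary (h : PAbConj G) {a b : G} (hab : Pair 2 a b) (S : Sylow 2 G) :
    ∀ x ∈ (S : Subgroup G), x * x = 1 := by
  haveI : Fact (Nat.Prime 2) := ⟨Nat.prime_two⟩
  intro x hx
  obtain ⟨k, hk⟩ := IsPGroup.iff_orderOf.1 S.2 ⟨x, hx⟩
  rw [Subgroup.orderOf_mk] at hk
  rw [← pow_two]
  exact (autConj_self h).orderOf_le hab hk

theorem le_normal (h : PAbConj G) (S : Sylow 2 G) (hS : ∀ x ∈ (S : Subgroup G), x * x = 1)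
    {N : Subgroup G} [N.Normal] {t : G} (htN : t ∈ N) (ht : orderOf t = 2) : (S : Subgroup G) ≤ N := by
  haveI : Fact (Nat.Prime 2) := ⟨Nat.prime_two⟩
  intro x hx
  by_cases h1 : x = 1
  · rw [h1]; exact one_mem N
  · exact mem_of_orderOf h (p := 2) (k := 1) htN (by rw [ht, pow_one])
      (by rw [pow_one]; exact orderOf_eq_prime (by rw [pow_two]; exact hS x hx) h1)

/-- Data about a simple normal subgroup. -/
structure Data (M : Subgroup G) (S : Sylow 2 G) (n : ℕ) : Prop where
  sq : ∀ x ∈ (S : Subgroup G), x * x = 1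
  le : (S : Subgroup G) ≤ M
  two : 2 ≤ n
  card : Nat.card (S : Subgroup G) = 2 ^ n

theorem exists_data (h : PAbConj G) (M : Subgroup G) [M.Normal] [IsSimpleGroup M]
    (hna : ¬ IsMulCommutative M) (S : Sylow 2 G) : ∃ n, Data M S n := by
  haveI : Fact (Nat.Prime 2) := ⟨Nat.prime_two⟩
  obtain ⟨a, b, hab⟩ := exists_pair hna
  have hab' := Pair.map M.subtype M.subtype_injective hab
  have hS := elementary h hab' S
  obtain ⟨n, hn⟩ := IsPGroup.iff_card.1 S.2
  refine ⟨n, hS, le_normal h S hS a.2 hab'.ha, ?_, hn⟩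
  have h4 := four_dvd_sylow hab' S
  rw [hn, show (4 : ℕ) = 2 ^ 2 by norm_num] at h4
  exact (Nat.pow_dvd_pow_iff_le_right (by norm_num)).1 h4

end CfsgLib.EightCore.Rows
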