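import Cfsg.Agent.EightCore.Rows.Simple
import Cfsg.Agent.EqualOrder.Classify

/-!
# Groups in which `p`-subgroups of equal order are conjugate: quotients, Sylow 2-subgroups
-/

set_option autoImplicit false
set_option linter.unusedSectionVars false
set_option linter.style.haveILetI false

namespace CfsgLib.EightCore.Rows

open Subgroup

universe u

variable {G : Type u} [Group G]

/-- `p`-subgroups of equal order are conjugate. -/
def PConj (G : Type*) [Group G] : Prop :=
  ∀ p : ℕ, p.Prime → ∀ H K : Subgroup G, IsPGroup p H → IsPGroup p K → Nat.card H = Nat.card K →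
    ∃ g : G, K = H.map (MulAut.conj g).toMonoidHom

theorem PConj.pab (h : PConj G) : PAbConj G := fun p hp A B hA hB _ _ hc => h p hp A B hA hB hc

variable [Finite G]

theorem PConj.conj_zpowers (h : PConj G) {p k : ℕ} [hp : Fact p.Prime] {x y : G} (hx : orderOf x = p ^ k)
    (hy : orderOf y = p ^ k) : ∃ g : G, zpowers y = (zpowers x).map (MulAut.conj g).toMonoidHom :=
  h p hp.out _ _ (IsPGroup.of_card (by rw [Nat.card_zpowers, hx]))
    (IsPGroup.of_card (by rw [Nat.card_zpowers, hy])) (by rw [Nat.card_zpowers, Nat.card_zpowers, hx, hy])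

/-- A subgroup of the order of a cyclic `p`-subgroup is cyclic. -/
theorem PConj.exists_gen (h : PConj G) {A : Subgroup G} {x : G} {p k : ℕ} [hp : Fact p.Prime]
    (hx : orderOf x = p ^ k) (hc : Nat.card A = orderOf x) :
    ∃ y : G, orderOf y = orderOf x ∧ A = zpowers y := by
  obtain ⟨g, hg⟩ := h p hp.out (zpowers x) A (IsPGroup.of_card (by rw [Nat.card_zpowers, hx]))
    (IsPGroup.of_card (hc.trans hx)) (by rw [Nat.card_zpowers, hc])
  refine ⟨g * x * g⁻¹, ?_, by rw [hg, MonoidHom.map_zpowers]; rfl⟩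
  exact orderOf_injective (MulAut.conj g).toMonoidHom (MulAut.conj g).injective x

/-- The property passes to quotients. -/
theorem PConj.quotient (h : PConj G) (N : Subgroup G) [N.Normal] : PConj (G ⧸ N) := by
  intro p hp A B hA hB hAB
  haveI := Fact.mk hp
  set π := QuotientGroup.mk' N
  have hs : Function.Surjective π := QuotientGroup.mk'_surjective N
  have hc : ∀ A : Subgroup (G ⧸ N), Nat.card ↥(A.comap π) = Nat.card N * Nat.card A := by
    intro A
    have h1 := (A.comap π).card_mul_index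
    rw [index_comap_of_surjective A hs, Subgroup.card_eq_card_quotient_mul_card_subgroup N,
      ← A.card_mul_index] at h1
    exact Nat.eq_of_mul_eq_mul_right (Nat.pos_of_ne_zero index_ne_zero_of_finite) (h1.trans (by ring))
  have lift : ∀ A : Subgroup (G ⧸ N), IsPGroup p A → ∃ W : Subgroup G, IsPGroup p W ∧ W.map π = A ∧
      Nat.card W = p ^ (Nat.card N * Nat.card A).factorization p := by
    intro A hA
    set ρ := π.subgroupComap A
    have hρ : Function.Surjective ρ := MonoidHom.subgroupComap_surjective_of_surjective _ _ hs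
    obtain ⟨R⟩ : Nonempty (Sylow p (A.comap π)) := inferInstance
    have hR : (R : Subgroup (A.comap π)).map ρ = ⊤ :=
      ((R.mapSurjective hρ).3 (Q := (⊤ : Subgroup A)) (hA.of_equiv topEquiv.symm) le_top).symm
    refine ⟨(R : Subgroup (A.comap π)).map (A.comap π).subtype, R.2.map _, le_antisymm ?_ fun a ha => ?_, ?_⟩
    · rintro _ ⟨_, ⟨k, -, rfl⟩, rfl⟩
      exact k.2
    · obtain ⟨k, hk, hke⟩ := hR.ge (mem_top (⟨a, ha⟩ : A))
      exact ⟨k, ⟨k, hk, rfl⟩, congrArg Subtype.val hke⟩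
    · rw [card_map_of_injective (A.comap π).subtype_injective, R.card_eq_multiplicity, hc]
  obtain ⟨W, hW, rfl, hWc⟩ := lift A hA
  obtain ⟨W', hW', rfl, hW'c⟩ := lift B hB
  obtain ⟨g, hg⟩ := h p hp W W' hW hW' (by rw [hWc, hW'c, hAB])
  refine ⟨π g, ?_⟩
  rw [hg, Subgroup.map_map, Subgroup.map_map]
  exact congrArg (fun f => Subgroup.map f W) (MonoidHom.ext fun x => by simp)

/-- The Sylow 2-subgroups. -/
theorem PConj.sylow_cases (h : PConj G) (S : Sylow 2 G) :
    IsCyclic (S : Subgroup G) ∨ Nonempty ((S : Subgroup G) ≃* QuaternionGroup 2) ∨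
      ∀ x ∈ (S : Subgroup G), x * x = 1 := by
  haveI : Fact (Nat.Prime 2) := ⟨Nat.prime_two⟩
  by_cases hexp : ∀ x ∈ (S : Subgroup G), x * x = 1
  · exact Or.inr (Or.inr hexp)
  push Not at hexp
  obtain ⟨w, hw, hw2⟩ := hexp
  obtain ⟨k, hk⟩ := IsPGroup.iff_orderOf.1 S.2 ⟨w, hw⟩
  rw [Subgroup.orderOf_mk] at hk
  have hk2 : 2 ≤ k := by
    by_contra hlt
    apply hw2
    rw [← sq, ← orderOf_dvd_iff_pow_eq_one, hk]
    exact pow_dvd_pow 2 (show k ≤ 1 by omega)
  obtain ⟨x, hxS, hx4⟩ : ∃ x ∈ (S : Subgroup G), orderOf x = 4 := by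
    refine ⟨w ^ 2 ^ (k - 2), pow_mem hw _, ?_⟩
    rw [orderOf_pow' w (by positivity), hk, Nat.gcd_eq_right (pow_dvd_pow 2 (Nat.sub_le k 2)),
      Nat.pow_div (Nat.sub_le k 2) two_pos, show k - (k - 2) = 2 by omega]
    rfl
  -- one involution
  have huniq : ∀ a b : G, orderOf a = 2 → orderOf b = 2 → Commute a b → a = b := by
    intro a b ha hb hab
    by_contra hne
    obtain ⟨y, hy, hV⟩ := h.exists_gen (x := x) (p := 2) (k := 2) (by rw [hx4]; norm_num)
      ((EqOrder.card_four ha hb hab hne).trans hx4.symm)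
    have hin : ∀ c : G, orderOf c = 2 → c ∈ zpowers y → c = y * y := by
      intro c hc hmem
      obtain ⟨i, rfl⟩ := mem_zpowers_iff.1 hmem
      have hy4 : orderOf y = 4 := hy.trans hx4
      rw [← zpow_mod_orderOf, hy4] at hc ⊢
      rcases (show i % 4 = 0 ∨ i % 4 = 1 ∨ i % 4 = 2 ∨ i % 4 = 3 by omega) with h' | h' | h' | h' <;>
        push_cast at * <;> rw [h'] at hc ⊢
      · simp at hc
      · rw [zpow_one, hy4] at hc; omega
      · rw [show (2 : ℤ) = (2 : ℕ) from rfl, zpow_natCast, sq]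
      · rw [show (3 : ℤ) = (3 : ℕ) from rfl, zpow_natCast, orderOf_pow' y (by norm_num), hy4] at hc
        norm_num at hc
    exact hne ((hin a ha (hV ▸ mem_sup_left (mem_zpowers a))).trans
      (hin b hb (hV ▸ mem_sup_right (mem_zpowers b))).symm)
  have hS1 : ∀ a b : (S : Subgroup G), orderOf a = 2 → orderOf b = 2 → b ∈ zpowers a := by
    intro a b ha hb
    obtain ⟨z, -, hz, hzc⟩ := EqOrder.exists_central_order 2 S.2 a.2 (by rw [Subgroup.orderOf_coe]; exact ha)
    have key : ∀ c : (S : Subgroup G), orderOf c = 2 → (c : G) = z := fun c hc =>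
      huniq c z (by rw [Subgroup.orderOf_coe]; exact hc) hz (hzc c c.2).symm
    rw [show b = a from Subtype.ext ((key b hb).trans (key a ha).symm)]
    exact mem_zpowers a
  rcases CfsgLib.UniqueInvol.cyclic_or_quaternion S.2 hS1 with hc | ⟨-, n, hn, ⟨e⟩⟩
  · exact Or.inl hc
  refine Or.inr (Or.inl ?_)
  rcases eq_or_lt_of_le hn with rfl | hn2
  · exact ⟨e⟩
  exfalso
  haveI : NeZero (2 ^ n) := ⟨by positivity⟩
  -- an element of order eight and an element of order four outside the cyclic subgroup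
  set a1 : QuaternionGroup (2 ^ n) := QuaternionGroup.a 1
  have hu : orderOf ((e.symm (a1 ^ 2 ^ (n - 2)) : (S : Subgroup G)) : G) = 8 := by
    rw [Subgroup.orderOf_coe, e.symm.orderOf_eq, orderOf_pow' _ (by positivity),
      QuaternionGroup.orderOf_a_one, ← pow_succ',
      Nat.gcd_eq_right (pow_dvd_pow 2 (show n - 2 ≤ n + 1 by omega)),
      Nat.pow_div (show n - 2 ≤ n + 1 by omega) two_pos, show n + 1 - (n - 2) = 3 by omega]
    rfl
  set c : (S : Subgroup G) := e.symm (QuaternionGroup.xa 0)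
  have hc4 : orderOf c = 4 := by rw [e.symm.orderOf_eq, QuaternionGroup.orderOf_xa]
  have h8 : 2 ^ 3 ∣ Nat.card (S : Subgroup G) := by
    rw [Nat.card_congr e.toEquiv, Nat.card_eq_fintype_card, QuaternionGroup.card,
      show 4 * 2 ^ n = 2 ^ (n + 2) by ring]
    exact pow_dvd_pow 2 (by omega)
  obtain ⟨K, hK, hcK⟩ := Sylow.exists_subgroup_card_pow_prime_le 2 h8 (zpowers c) (n := 2)
    (by rw [Nat.card_zpowers, hc4]; rfl) (by norm_num)
  obtain ⟨y, hy, hKy⟩ := h.exists_gen (A := K.map (S : Subgroup G).subtype)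
    (x := ((e.symm (a1 ^ 2 ^ (n - 2)) : (S : Subgroup G)) : G)) (p := 2) (k := 3) (by rw [hu]; norm_num)
    (by rw [card_map_of_injective (S : Subgroup G).subtype_injective, hK, hu]; rfl)
  obtain ⟨v, hvK, rfl⟩ : y ∈ K.map (S : Subgroup G).subtype := hKy ▸ mem_zpowers y
  have hcv : c ∈ zpowers v := by
    have h1 : (c : G) ∈ zpowers (v : G) := by
      have h2 : (c : G) ∈ K.map (S : Subgroup G).subtype := ⟨c, hcK (mem_zpowers c), rfl⟩
      rw [hKy] at h2
      exact h2
    obtain ⟨i, hi⟩ := mem_zpowers_iff.1 h1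
    exact mem_zpowers_iff.2 ⟨i, Subtype.ext (by simpa using hi)⟩
  have hv8 : orderOf (e v) = 8 := by
    rw [e.orderOf_eq, ← Subgroup.orderOf_coe]
    exact hy.trans hu
  obtain ⟨i, hi⟩ := mem_zpowers_iff.1 hcv
  have hi' : e v ^ i = QuaternionGroup.xa 0 := by
    rw [← map_zpow, hi]; exact e.apply_symm_apply _
  match hev : e v with
  | QuaternionGroup.xa j => rw [hev, QuaternionGroup.orderOf_xa] at hv8; omega
  | QuaternionGroup.a j =>
    have hmem : QuaternionGroup.a j ∈ zpowers a1 := by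
      refine mem_zpowers_iff.2 ⟨(j.val : ℤ), ?_⟩
      rw [zpow_natCast, QuaternionGroup.a_one_pow, ZMod.natCast_zmod_val]
    rw [hev] at hi'
    have := zpow_mem hmem i
    rw [hi'] at this
    obtain ⟨l, hl⟩ := mem_powers_iff_mem_zpowers.2 this
    change a1 ^ l = _ at hl
    rw [QuaternionGroup.a_one_pow] at hl
    cases hl

/-- A Sylow subgroup of order four that is normal: the group is `A₄`. -/
theorem normal_two (h : PConj G) (hO : Cfsg.oddCore G = ⊥) (S : Sylow 2 G)
    (hS : ∀ x ∈ (S : Subgroup G), x * x = 1) (h4 : Nat.card (S : Subgroup G) = 4)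
    [(S : Subgroup G).Normal] : Nonempty (G ≃* alternatingGroup (Fin 4)) := by
  haveI : Fact (Nat.Prime 2) := ⟨Nat.prime_two⟩
  classical
  set I := {s : (S : Subgroup G) // s ≠ 1}
  have hI : Nat.card I = 3 := by
    haveI := Fintype.ofFinite (S : Subgroup G)
    rw [Nat.card_eq_fintype_card, Fintype.card_subtype_compl, Fintype.card_subtype_eq,
      ← Nat.card_eq_fintype_card, h4]
  let act : MulAction G I :=
    { smul := fun g s => ⟨MulAut.conjNormal g s.1, fun e => s.2 ((MulAut.conjNormal g).map_eq_one_iff.1 e)⟩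
      one_smul := fun s => Subtype.ext (show MulAut.conjNormal (1 : G) s.1 = s.1 by rw [map_one]; rfl)
      mul_smul := fun a b s => Subtype.ext (show MulAut.conjNormal (a * b) s.1 = _ by rw [map_mul]; rfl) }
  letI := act
  have hker : (MulAction.toPermHom G I).ker = (S : Subgroup G) := by
    rw [← EqOrder.centralizer_eq_of_normal S hS hO]
    ext g
    rw [MonoidHom.mem_ker, mem_centralizer_iff]
    constructor
    · intro hg s hs
      by_cases h1 : s = 1
      · simp [h1]
      have h2 := congrArg (fun σ : Equiv.Perm I => ((σ ⟨⟨s, hs⟩, fun e => h1 (congrArg Subtype.val e)⟩).1 : G)) hg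
      change g * s * g⁻¹ = s at h2
      exact (mul_inv_eq_iff_eq_mul.1 h2).symm
    · intro hg
      refine Equiv.ext fun s => Subtype.ext (Subtype.ext ?_)
      show g * ((s.1 : (S : Subgroup G)) : G) * g⁻¹ = _
      rw [← hg _ s.1.2, mul_inv_cancel_right]
      rfl
  have h6 : (S : Subgroup G).index ∣ 6 := by
    rw [← hker, index_ker]
    refine dvd_trans (card_subgroup_dvd_card _) (dvd_of_eq ?_)
    rw [Nat.card_perm, hI]
    rfl
  have hodd := S.not_dvd_index
  have hne1 : (S : Subgroup G).index ≠ 1 := by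
    intro h1
    have htop : (S : Subgroup G) = ⊤ := index_eq_one.1 h1
    obtain ⟨a, ha⟩ : ∃ s : (S : Subgroup G), s ≠ 1 := by
      have : Nonempty I := (Nat.card_pos_iff.1 (by rw [hI]; norm_num)).1
      exact ⟨_, this.some.2⟩
    obtain ⟨b, hb, hba⟩ : ∃ b : (S : Subgroup G), b ≠ 1 ∧ b ≠ a := by
      by_contra hcon
      push Not at hcon
      haveI : Subsingleton I := ⟨fun s t => Subtype.ext ((hcon _ s.2).trans (hcon _ t.2).symm)⟩
      have := Finite.card_le_one_iff_subsingleton.2 ‹Subsingleton I›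
      omega
    have ho : ∀ c : (S : Subgroup G), c ≠ 1 → orderOf (c : G) = 2 := fun c hc =>
      orderOf_eq_prime (by rw [sq]; exact hS _ c.2) fun e => hc (Subtype.ext e)
    obtain ⟨g, hg⟩ := h.conj_zpowers (p := 2) (k := 1) (x := (a : G)) (y := (b : G)) (by rw [ho a ha]; rfl)
      (by rw [ho b hb]; rfl)
    have hga : g * (a : G) * g⁻¹ = a := by
      have hgS : g ∈ (S : Subgroup G) := htop ▸ mem_top g
      rw [(EqOrder.sylow_comm S hS hgS a.2).eq, mul_inv_cancel_right]
    rw [MonoidHom.map_zpowers] at hg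
    change zpowers (b : G) = zpowers (g * a * g⁻¹) at hg
    rw [hga] at hg
    refine hba (Subtype.ext ?_)
    obtain ⟨i, hi⟩ := mem_zpowers_iff.1 (hg ▸ mem_zpowers (b : G))
    rw [← zpow_mod_orderOf, ho a ha] at hi
    rcases Int.emod_two_eq_zero_or_one i with h' | h' <;> push_cast at hi <;> rw [h'] at hi
    · exact absurd (Subtype.ext (hi.symm.trans (zpow_zero _))) hb
    · exact hi.symm.trans (zpow_one _)
  have h12 : Nat.card G = 12 := by
    have hle := Nat.le_of_dvd (by norm_num) h6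
    rw [← (S : Subgroup G).card_mul_index, h4]
    interval_cases (S : Subgroup G).index <;> omega
  refine Cfsg.Agent.S0228.result h12 fun z hz hzc => hne1 ?_
  have hzS : z ∈ (S : Subgroup G) := by
    rw [← S.is_maximal' ((IsPGroup.of_card (n := 1) (by rw [Nat.card_zpowers, hz, pow_one]) :
      IsPGroup 2 (zpowers z)).to_sup_of_normal_right S.2) le_sup_right]
    exact mem_sup_left (mem_zpowers z)
  refine index_eq_one.2 ((eq_top_iff' _).2 fun g => ?_)
  rw [← EqOrder.centralizer_eq_of_normal S hS hO, mem_centralizer_iff]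
  intro s hs
  by_cases h1 : s = 1
  · simp [h1]
  have hso : orderOf s = 2 := orderOf_eq_prime (by rw [sq]; exact hS s hs) h1
  obtain ⟨c, hc⟩ := h.conj_zpowers (p := 2) (k := 1) (x := z) (y := s) (by rw [hz]; rfl) (by rw [hso]; rfl)
  rw [MonoidHom.map_zpowers] at hc
  change zpowers s = zpowers (c * z * c⁻¹) at hc
  rw [mem_center_iff.1 hzc c, mul_inv_cancel_right] at hc
  exact ((mem_center_iff.1 ((zpowers_le.2 hzc) (hc ▸ mem_zpowers s))) g).symm

/-- A cyclic Sylow 2-subgroup. -/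
theorem cyclic_case (hO : Cfsg.oddCore G = ⊥) (S : Sylow 2 G) (hS : IsCyclic (S : Subgroup G)) :
    IsCyclic G ∧ IsPGroup 2 G := by
  haveI : Fact (Nat.Prime 2) := ⟨Nat.prime_two⟩
  obtain ⟨R, hRn, hRo, hall⟩ := DGroup.exists_compl_of_cyclic S hS
  have hR : R = ⊥ := le_bot_iff.1 ((DGroup.le_oddCore hRn hRo).trans hO.le)
  have hG : IsPGroup 2 G := by
    intro a
    obtain ⟨k, m, hm, hk⟩ := Nat.exists_eq_two_pow_mul_odd (orderOf_pos a).ne'
    refine ⟨k, ?_⟩
    have hmem : a ^ 2 ^ k ∈ R := hall _ (by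
      rw [orderOf_pow' _ (by positivity), hk, Nat.gcd_eq_right (dvd_mul_right _ m),
        Nat.mul_div_cancel_left _ (by positivity)]
      exact hm)
    rwa [hR, mem_bot] at hmem
  refine ⟨?_, hG⟩
  have htop : (S : Subgroup G) = ⊤ :=
    (S.is_maximal' (Q := ⊤) (hG.of_equiv topEquiv.symm) le_top).symm
  haveI := hS
  exact isCyclic_of_surjective (S : Subgroup G).subtype fun x => ⟨⟨x, htop ▸ mem_top x⟩, rfl⟩

/-- An elementary abelian normal Sylow subgroup of order at least eight. -/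
theorem normal_big (h : PConj G) (hO : Cfsg.oddCore G = ⊥) (S : Sylow 2 G)
    (hS : ∀ x ∈ (S : Subgroup G), x * x = 1) {n : ℕ} (hn : 3 ≤ n)
    (hc : Nat.card (S : Subgroup G) = 2 ^ n) [(S : Subgroup G).Normal] :
    Nonempty (G ≃* Cfsg.affineGroup (GaloisField 2 3)) ∨
      Nonempty (G ≃* Cfsg.semiaffineGroup (GaloisField 2 3)) ∨
      Nonempty (G ≃* Cfsg.semiaffineGroup (GaloisField 2 5)) := by
  haveI : Fact (Nat.Prime 2) := ⟨Nat.prime_two⟩
  haveI := EqOrder.isSolvable_of_normal_sylow S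
  have hel : Cfsg.IsElementaryAbelian 2 (S : Subgroup G) :=
    ⟨⟨⟨fun a b => Subtype.ext (EqOrder.sylow_comm S hS a.2 b.2)⟩⟩, fun a ha => by rw [sq]; exact hS a ha⟩
  let e : G ⧸ Cfsg.pPrimeCore 2 G ≃* G :=
    (QuotientGroup.quotientMulEquivOfEq hO).trans QuotientGroup.quotientBot
  rcases CfsgLib.ConjP.normal_case (S : Subgroup G) S.card_coprime_index hel hn hc inferInstance
    (fun A B hA hB hAB => h 2 Nat.prime_two A B (S.2.to_le hA) (S.2.to_le hB) hAB)
    with ⟨-, -, hcases⟩ | ⟨-, -, ⟨f⟩⟩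
  · rcases hcases rfl with ⟨⟨f⟩⟩ | ⟨⟨f⟩⟩
    · exact Or.inr (Or.inl ⟨e.symm.trans f⟩)
    · exact Or.inl ⟨e.symm.trans f⟩
  · exact Or.inr (Or.inr ⟨e.symm.trans f⟩)

end CfsgLib.EightCore.Rows
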