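import Cfsg.Agent.EightCore.Rows.Simple
import Cfsg.Agent.EightCore.Rows.PConj
import Cfsg.Agent.EightCore.Degree
import Cfsg.Agent.InvChar.OneSixtyEight
import Cfsg.Agent.AutPSL.ClassBasics

/-!
# Groups in which `p`-subgroups of equal order are conjugate: no field automorphisms
-/

set_option autoImplicit false
set_option linter.unusedSectionVars false
set_option linter.style.haveILetI false

namespace CfsgLib.EightCore.Rows

open Subgroup
open CfsgLib.Linear.SmallSub (P2)

universe u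

variable {G : Type u} [Group G] [Finite G] {F : Type} [Field F] [Fintype F]

theorem conjNormal_inj {P : Subgroup G} [P.Normal] (hc : centralizer (P : Set G) = ⊥) :
    Function.Injective (MulAut.conjNormal : G →* MulAut ↥P) := by
  rw [← MonoidHom.ker_eq_bot_iff, eq_bot_iff]
  refine le_trans (fun g hg => mem_centralizer_iff.2 fun x hx => ?_) hc.le
  have h1 := congrArg Subtype.val (DFunLike.congr_fun (MonoidHom.mem_ker.1 hg) (⟨x, hx⟩ : P))
  rw [MulAut.conjNormal_apply] at h1
  exact (mul_inv_eq_iff_eq_mul.1 h1).symm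

/-- The action on a normal `PSL₂`. -/
noncomputable def act {P : Subgroup G} [P.Normal] (e : P ≃* P2 F) : G →* MulAut (P2 F) :=
  (MulAut.congr e).toMonoidHom.comp MulAut.conjNormal

theorem act_mem {P : Subgroup G} [P.Normal] (e : P ≃* P2 F) (p : P) : act e (p : G) = MulAut.conj (e p) := by
  refine MulEquiv.ext fun z => ?_
  show e (MulAut.conjNormal (p : G) (e.symm z)) = e p * z * (e p)⁻¹
  rw [show MulAut.conjNormal (p : G) (e.symm z) = p * e.symm z * p⁻¹ from Subtype.ext rfl,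
    map_mul, map_mul, map_inv, e.apply_symm_apply]

theorem act_inj {P : Subgroup G} [P.Normal] (e : P ≃* P2 F) (hc : centralizer (P : Set G) = ⊥) :
    Function.Injective (act e) :=
  (MulAut.congr e).injective.comp (conjNormal_inj hc)

theorem finite_aut : Finite (MulAut (P2 F)) :=
  Finite.of_injective (fun φ => (φ.toEquiv : Equiv.Perm (P2 F))) fun _ _ h =>
    MulEquiv.ext fun x => Equiv.congr_fun h x

/-- The odd prime field automorphisms are not induced. -/
theorem no_field_part (h : PConj G) {P : Subgroup G} [P.Normal] (e : P ≃* P2 F)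
    (hc : centralizer (P : Set G) = ⊥) {r : ℕ} [hr : Fact r.Prime] (hr2 : r ≠ 2) (hrP : r ∣ Nat.card P)
    (hidx : (act e).range.index ∣ 2) (σ : RingAut F) (hσ : orderOf σ = r) : False := by
  haveI := finite_aut (F := F)
  set α : MulAut (P2 F) := CfsgLib.AutPSL.semiAut 1 σ
  have hα : orderOf α = r := by
    show orderOf (CfsgLib.AutPSL.semiAut 1 σ) = r
    rw [CfsgLib.AutPSL.orderOf_semiAut_one le_rfl, hσ]
  obtain ⟨x, hx⟩ : α ∈ (act e).range := by
    rcases (Nat.dvd_prime Nat.prime_two).1 hidx with h1 | h1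
    · rw [index_eq_one.1 h1]; exact mem_top α
    · obtain ⟨j, hj⟩ := hr.out.odd_of_ne_two hr2
      have e2 : α = (α ^ (2 : ℕ)) ^ (j + 1) := by
        rw [← pow_mul, show 2 * (j + 1) = r + 1 by omega, pow_succ, ← hα, pow_orderOf_eq_one, one_mul]
      rw [e2]
      exact pow_mem (sq_mem_of_index_two h1 α) _
  have hxo : orderOf x = r := by rw [← orderOf_injective _ (act_inj e hc) x, hx, hα]
  obtain ⟨y, hy⟩ := exists_prime_orderOf_dvd_card' (G := ↥P) r hrP
  have hxP : x ∈ P := mem_of_orderOf h.pab (p := r) (k := 1) y.2 (by rw [orderOf_coe, hy, pow_one])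
    (by rw [hxo, pow_one])
  have h4 := (act_mem e ⟨x, hxP⟩).symm.trans hx
  obtain ⟨k, hk⟩ := QuotientGroup.mk_surjective (e ⟨x, hxP⟩)
  rw [← hk, ← CfsgLib.AutPSL.semiAut_toGL] at h4
  have hσ1 : σ = 1 := (CfsgLib.AutPSL.semiAut_eq_semiAut le_rfl h4).1.symm
  rw [hσ1, orderOf_one] at hσ
  exact hr.out.one_lt.ne hσ

/-- The degree of the field is one or three. -/
theorem degree (h : PConj G) {P : Subgroup G} [P.Normal] (e : P ≃* P2 F) {p f : ℕ} [hp : Fact p.Prime]
    (hF : Fintype.card F = p ^ f) (h8 : Fintype.card F % 8 = 3 ∨ Fintype.card F % 8 = 5) :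
    p ≠ 2 ∧ (f = 1 ∨ f = 3) ∧ (p % 8 = 3 ∨ p % 8 = 5) := by
  obtain ⟨hp2, hfodd⟩ := PSL.odd_degree hF h8
  refine ⟨hp2, ?_, ?_⟩
  · by_contra hcon
    have hf5 : 5 ≤ f := by
      obtain ⟨k, hk⟩ := hfodd
      omega
    obtain ⟨A, B, hAc, hBc, hAB⟩ := PSL.exists_unrelated hF hp2 hf5
    set ι : P2 F →* G := P.subtype.comp e.symm.toMonoidHom
    have hι : Function.Injective ι := fun a b hab => e.symm.injective (P.subtype_injective hab)
    have hsub : ∀ C : AddSubgroup F, Nat.card C = p ^ 2 → IsPGroup p ((PSL.uSub C).map ι) ∧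
        Nat.card ((PSL.uSub C).map ι) = p ^ 2 := fun C hC => by
      have h1 : Nat.card ((PSL.uSub C).map ι) = p ^ 2 := by
        rw [card_map_of_injective hι, PSL.card_uSub, hC]
      exact ⟨IsPGroup.of_card h1, h1⟩
    obtain ⟨hA, hA'⟩ := hsub A hAc
    obtain ⟨hB, hB'⟩ := hsub B hBc
    obtain ⟨g, hg⟩ := h p hp.out _ _ hA hB (hA'.trans hB'.symm)
    refine hAB (act e g) fun a ha => ?_
    obtain ⟨z, hz, hze⟩ := hg.ge (⟨ι (PSL.u a), ⟨PSL.u a, PSL.mem_uSub.2 ⟨a, ha, rfl⟩, rfl⟩, rfl⟩ :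
      g * ι (PSL.u a) * g⁻¹ ∈ ((PSL.uSub A).map ι).map (MulAut.conj g).toMonoidHom)
    obtain ⟨b, hb, rfl⟩ := PSL.mem_uSub.1 hz
    refine ⟨b, hb, e.symm.injective (Subtype.ext ?_)⟩
    show ((e.symm (e (MulAut.conjNormal g (e.symm (PSL.u a)))) : P) : G) = _
    rw [e.symm_apply_apply, MulAut.conjNormal_apply]
    exact hze.symm
  · obtain ⟨k, hk⟩ := hfodd
    have hodd := hp.out.odd_of_ne_two hp2
    rw [hF, hk, pow_succ, pow_mul, Nat.mul_mod, Nat.pow_mod] at h8
    have h1 : p ^ 2 % 8 = 1 := by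
      obtain ⟨j, hj⟩ := hodd
      rw [hj, Nat.pow_mod]
      have : (2 * j + 1) % 8 = 1 ∨ (2 * j + 1) % 8 = 3 ∨ (2 * j + 1) % 8 = 5 ∨ (2 * j + 1) % 8 = 7 := by omega
      rcases this with e | e | e | e <;> rw [e]
    rw [h1, one_pow] at h8
    omega

/-- Klein four Sylow subgroups. -/
theorem two_end (h : PConj G) {P : Subgroup G} [P.Normal] (hodd : Odd P.index)
    (hc : centralizer (P : Set G) = ⊥) (e : P ≃* P2 F) (h8 : Fintype.card F % 8 = 3 ∨ Fintype.card F % 8 = 5) :
    ∃ (p : ℕ) (_ : Fact p.Prime), (p % 8 = 3 ∨ p % 8 = 5) ∧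
      ((Fintype.card F = p ∧ Nonempty (G ≃* Matrix.ProjectiveSpecialLinearGroup (Fin 2) (ZMod p))) ∨
       (Fintype.card F = p ^ 3 ∧
        Nonempty (G ≃* Matrix.ProjectiveSpecialLinearGroup (Fin 2) (GaloisField p 3)))) := by
  obtain ⟨p, hpc⟩ := CharP.exists F
  haveI hp : Fact p.Prime := ⟨CharP.char_is_prime F p⟩
  obtain ⟨n, -, hF⟩ := FiniteField.card F p
  obtain ⟨hp2, hf, hp8⟩ := degree h e hF h8
  haveI := finite_aut (F := F)
  have hcardA := PSL.card_aut hF hp2 n.ne_zero
  have hle : Nat.card G ∣ n * (2 * Nat.card P) := by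
    rw [Nat.card_congr e.toEquiv, ← hcardA]
    exact Subgroup.card_dvd_of_injective _ (act_inj e hc)
  have hdvd : P.index ∣ (n : ℕ) := by
    rw [← P.card_mul_index, show (n : ℕ) * (2 * Nat.card P) = Nat.card P * (n * 2) by ring] at hle
    exact (Nat.coprime_two_right.2 hodd).dvd_of_dvd_mul_right (Nat.dvd_of_mul_dvd_mul_left Nat.card_pos hle)
  have h1 : P.index = 1 := by
    rcases hf with hf | hf
    · rw [hf] at hdvd; exact Nat.dvd_one.1 hdvd
    · rw [hf] at hdvd
      rcases (Nat.dvd_prime Nat.prime_three).1 hdvd with h1 | h1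
      · exact h1
      exfalso
      haveI : Fact (Nat.Prime 3) := ⟨Nat.prime_three⟩
      obtain ⟨ea⟩ := CfsgLib.AutPSL.nonempty_ringAut_equiv (F := F) (p := p) (f := 3) (by norm_num)
        (by rw [hF, hf])
      haveI : Finite (RingAut F) := Finite.of_equiv _ ea.symm.toEquiv
      obtain ⟨σ, hσ⟩ := exists_prime_orderOf_dvd_card' (G := RingAut F) 3
        (by rw [Nat.card_congr ea.toEquiv, Nat.card_congr Multiplicative.toAdd, Nat.card_zmod])
      refine no_field_part h e hc (r := 3) (by norm_num)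
        (Nat.card_congr e.toEquiv ▸ PSL.three_dvd_card (Nat.odd_iff.2 (by omega))) ?_ σ hσ
      refine dvd_of_eq ?_
      have hm := (act e).range.card_mul_index
      rw [Nat.card_congr (MonoidHom.ofInjective (act_inj e hc)).toEquiv.symm, hcardA, hf, ← P.card_mul_index, h1,
        ← Nat.card_congr e.toEquiv] at hm
      exact Nat.eq_of_mul_eq_mul_left (Nat.mul_pos Nat.card_pos (by norm_num : 0 < 3)) (hm.trans (by ring))
  let e' : G ≃* P2 F :=
    (Subgroup.topEquiv.symm.trans (MulEquiv.subgroupCongr (index_eq_one.1 h1).symm)).trans e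
  refine ⟨p, hp, hp8, ?_⟩
  rcases hf with hf | hf
  · left
    rw [hf, pow_one] at hF
    obtain ⟨g⟩ := CfsgLib.InvChar.psl_congr (ZMod.ringEquivOfPrime F hp.out hF).symm
    exact ⟨hF, ⟨e'.trans g⟩⟩
  · right
    rw [hf] at hF
    haveI := ConjP.finite_field (p := p) (n := 3) (by norm_num)
    haveI : Fintype (GaloisField p 3) := Fintype.ofFinite _
    obtain ⟨g⟩ := CfsgLib.InvChar.psl_congr (FiniteField.ringEquivOfCardEq (K := F) (K' := GaloisField p 3)
      (by rw [hF, ← Nat.card_eq_fintype_card, GaloisField.card p 3 (by norm_num)]))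
    exact ⟨hF, ⟨e'.trans g⟩⟩

/-- The normal subgroup `L₂(8)`. -/
theorem eight_end (h : PConj G) {P : Subgroup G} [P.Normal] (hc : centralizer (P : Set G) = ⊥)
    (e : P ≃* EqOrder.L2 3) : Nonempty (G ≃* EqOrder.L2 3) := by
  haveI := ConjP.finite_field (p := 2) (n := 3) (by norm_num)
  haveI : Fintype (GaloisField 2 3) := Fintype.ofFinite _
  haveI := finite_aut (F := GaloisField 2 3)
  haveI : Fact (Nat.Prime 3) := ⟨Nat.prime_three⟩
  have hcardA := EqOrder.card_aut_L2 (n := 3) (by norm_num)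
  have hdvd : P.index ∣ 3 := by
    have hle : Nat.card G ∣ 3 * Nat.card P := by
      rw [Nat.card_congr e.toEquiv, ← hcardA]
      exact Subgroup.card_dvd_of_injective _ (act_inj e hc)
    rw [← P.card_mul_index, mul_comm 3] at hle
    exact Nat.dvd_of_mul_dvd_mul_left Nat.card_pos hle
  rcases (Nat.dvd_prime Nat.prime_three).1 hdvd with h1 | h1
  · exact ⟨(Subgroup.topEquiv.symm.trans (MulEquiv.subgroupCongr (index_eq_one.1 h1).symm)).trans e⟩
  exfalso
  obtain ⟨ea⟩ := CfsgLib.AutPSL.nonempty_ringAut_equiv (F := GaloisField 2 3) (p := 2) (f := 3)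
    (by norm_num) (by rw [← Nat.card_eq_fintype_card, EqOrder.card_field (by norm_num)])
  haveI : Finite (RingAut (GaloisField 2 3)) := Finite.of_equiv _ ea.symm.toEquiv
  obtain ⟨σ, hσ⟩ := exists_prime_orderOf_dvd_card' (G := RingAut (GaloisField 2 3)) 3
    (by rw [Nat.card_congr ea.toEquiv, Nat.card_congr Multiplicative.toAdd, Nat.card_zmod])
  refine no_field_part h e hc (r := 3) (by norm_num)
    (by rw [Nat.card_congr e.toEquiv, EqOrder.card_L2 (by norm_num)]; norm_num) ?_ σ hσ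
  refine dvd_trans (dvd_of_eq ?_) (one_dvd 2)
  have hm := (act e).range.card_mul_index
  rw [Nat.card_congr (MonoidHom.ofInjective (act_inj e hc)).toEquiv.symm, hcardA, ← P.card_mul_index, h1,
    ← Nat.card_congr e.toEquiv] at hm
  exact Nat.eq_of_mul_eq_mul_left (Nat.mul_pos Nat.card_pos (by norm_num : 0 < 3)) (hm.trans (by ring))

/-- The normal subgroup `L₂(32)`. -/
theorem thirty_two_end {P : Subgroup G} [P.Normal] (hc : centralizer (P : Set G) = ⊥)
    (e : P ≃* EqOrder.L2 5) (h5 : 5 ∣ Nat.card G) : Nonempty (G ≃* MulAut (EqOrder.L2 5)) := by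
  haveI := ConjP.finite_field (p := 2) (n := 5) (by norm_num)
  haveI : Fintype (GaloisField 2 5) := Fintype.ofFinite _
  haveI := finite_aut (F := GaloisField 2 5)
  have hcardA := EqOrder.card_aut_L2 (n := 5) (by norm_num)
  have h5P : ¬ 5 ∣ Nat.card P := by
    rw [Nat.card_congr e.toEquiv, EqOrder.card_L2 (by norm_num)]
    norm_num
  rw [← P.card_mul_index] at h5
  have hidx : 5 ≤ P.index := Nat.le_of_dvd (Nat.pos_of_ne_zero index_ne_zero_of_finite)
    ((Nat.prime_five.dvd_mul.1 h5).resolve_left h5P)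
  exact ⟨MulEquiv.ofBijective (act e) ((act_inj e hc).bijective_of_nat_card_le (by
    rw [hcardA, ← P.card_mul_index, ← Nat.card_congr e.toEquiv, mul_comm]
    exact Nat.mul_le_mul_left _ hidx))⟩

end CfsgLib.EightCore.Rows
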