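import Cfsg.Agent.EightCore.Rows.Simple
import Cfsg.Agent.EightCore.Three
import Cfsg.Agent.DGroup.RankTwo

/-!
# The consumers of the core theorem: the conclusion on simple normal subgroups
-/

set_option autoImplicit false
set_option linter.unusedSectionVars false
set_option linter.style.haveILetI false

namespace CfsgLib.EightCore.Rows

open Subgroup

universe u

theorem threeCase : ThreeCase.{u} := fun _ _ _ _ hA S hS h8 => three_case hA S hS h8

variable {G : Type u} [Group G] [Finite G]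

/-- In characteristic two `SL₂` and `PSL₂` agree. -/
theorem sl_of_psl {M : Type*} [Group M] {F : Type} [Field F] [Fintype F] {m : ℕ}
    (hF : Fintype.card F = 2 ^ m) (e : M ≃* Matrix.ProjectiveSpecialLinearGroup (Fin 2) F) :
    Nonempty (M ≃* Matrix.SpecialLinearGroup (Fin 2) F) := by
  haveI : Fact (Nat.Prime 2) := ⟨Nat.prime_two⟩
  haveI : CharP F 2 := charP_of_card_eq_prime_pow hF
  obtain ⟨i⟩ := CfsgLib.DGroup.RankTwo.exists_sl_iso (F := F)
  exact ⟨e.trans i.symm⟩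

theorem simple_normal_list (h : PAbConj G) (M : Subgroup G) [M.Normal] (hs : IsSimpleGroup M)
    (hna : ¬ IsMulCommutative M) :
    (∃ (F : Type) (_ : Field F) (_ : Fintype F), (Fintype.card F = 2 ^ 2 ∨ Fintype.card F = 2 ^ 3 ∨ Fintype.card F = 2 ^ 5) ∧
        Nonempty (↥M ≃* Matrix.SpecialLinearGroup (Fin 2) F)) ∨
    (∃ (F : Type) (_ : Field F) (_ : Fintype F), 5 ≤ Fintype.card F ∧ (Fintype.card F % 8 = 3 ∨ Fintype.card F % 8 = 5) ∧
        Nonempty (↥M ≃* Matrix.ProjectiveSpecialLinearGroup (Fin 2) F)) ∨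
    Cfsg.Spor.IsoJ1 ↥M := by
  haveI := hs
  obtain ⟨S⟩ : Nonempty (Sylow 2 G) := inferInstance
  obtain ⟨n, d⟩ := exists_data h M hna S
  rcases simple_cases threeCase h M hna S d with ⟨-, hM⟩ | ⟨-, ⟨F, i1, i2, hF, ⟨e⟩⟩ | hJ⟩ |
    ⟨-, ⟨F, i1, i2, hF, ⟨e⟩⟩, -⟩
  · exact Or.inr (Or.inl hM)
  · have hF' : Fintype.card F = 2 ^ 3 := by rw [hF]; norm_num
    exact Or.inl ⟨F, i1, i2, Or.inr (Or.inl hF'), sl_of_psl hF' e⟩
  · exact Or.inr (Or.inr hJ)
  · have hF' : Fintype.card F = 2 ^ 5 := by rw [hF]; norm_num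
    exact Or.inl ⟨F, i1, i2, Or.inr (Or.inr hF'), sl_of_psl hF' e⟩

end CfsgLib.EightCore.Rows
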