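import Cfsg.Agent.EightCore.Rows.Minimal
import Cfsg.Agent.EightCore.Rows.Field
import Cfsg.Agent.EightCore.Rows.Three
import Cfsg.Agent.GWApps.RankOne
import Cfsg.Agent.Coset.J1.Matrix
import Cfsg.Agent.S0251

/-!
# Groups in which `p`-subgroups of equal order are conjugate: the quotient by the odd core
-/

set_option autoImplicit false
set_option linter.unusedSectionVars false
set_option linter.style.haveILetI false

namespace CfsgLib.EightCore.Rows

open Subgroup
open CfsgLib.Linear.SmallSub (P2)

universe u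

variable {G : Type u} [Group G] [Finite G]

theorem sl_congr {K L : Type*} [CommRing K] [CommRing L] (f : K ≃+* L) :
    Nonempty (Matrix.SpecialLinearGroup (Fin 2) K ≃* Matrix.SpecialLinearGroup (Fin 2) L) := by
  refine ⟨MulEquiv.ofBijective (Matrix.SpecialLinearGroup.map (n := Fin 2) f.toRingHom) ⟨?_, ?_⟩⟩
  · intro A B hAB
    ext i j
    exact f.injective (congrArg (fun C : Matrix.SpecialLinearGroup (Fin 2) L => C i j) hAB)
  · intro A
    refine ⟨Matrix.SpecialLinearGroup.map f.symm.toRingHom A, ?_⟩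
    ext i j
    exact f.apply_symm_apply _

/-- The simple normal subgroup of a group with non-normal elementary Sylow subgroup. -/
theorem not_normal (h : PConj G) (hO : Cfsg.oddCore G = ⊥) (S : Sylow 2 G)
    (hS : ∀ x ∈ (S : Subgroup G), x * x = 1) {n : ℕ} (hn : 2 ≤ n)
    (hc : Nat.card (S : Subgroup G) = 2 ^ n) (hnn : ¬ (S : Subgroup G).Normal) :
    (n = 2 ∧ ∃ (p : ℕ) (_ : Fact p.Prime), (p % 8 = 3 ∨ p % 8 = 5) ∧
      ((3 < p ∧ Nonempty (G ≃* Matrix.ProjectiveSpecialLinearGroup (Fin 2) (ZMod p))) ∨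
       Nonempty (G ≃* Matrix.ProjectiveSpecialLinearGroup (Fin 2) (GaloisField p 3)))) ∨
    (3 ≤ n ∧ (Cfsg.IsJ1 G ∨
      Nonempty (G ≃* Matrix.ProjectiveSpecialLinearGroup (Fin 2) (GaloisField 2 3)) ∨
      Nonempty (G ≃* MulAut (Matrix.ProjectiveSpecialLinearGroup (Fin 2) (GaloisField 2 5))))) := by
  haveI : Fact (Nat.Prime 2) := ⟨Nat.prime_two⟩
  obtain ⟨M, hMn, hMs, hna, hcM⟩ := exists_simple h hO S hS (hc ▸ dvd_pow_self 2 (by omega)) hnn
  haveI := hMn
  haveI := hMs
  obtain ⟨m, d⟩ := exists_data h.pab M hna S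
  obtain rfl : n = m := Nat.pow_right_injective le_rfl (hc.symm.trans d.card)
  have hodd : Odd M.index := by
    rw [← Nat.not_even_iff_odd, even_iff_two_dvd]
    exact fun hd => S.not_dvd_index (hd.trans (index_dvd_of_le d.le))
  rcases simple_cases threeCase h.pab M hna S d with ⟨rfl, F, i1, i2, h5, h8, ⟨e⟩⟩ |
    ⟨rfl, ⟨F, i1, i2, hF, ⟨e⟩⟩ | hJ⟩ | ⟨rfl, ⟨F, i1, i2, hF, ⟨e⟩⟩, hd5⟩
  · obtain ⟨p, hp, hp8, hcase⟩ := two_end h hodd hcM e h8
    refine Or.inl ⟨rfl, p, hp, hp8, ?_⟩
    rcases hcase with ⟨hc1, hg⟩ | ⟨-, hg⟩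
    · exact Or.inl ⟨by omega, hg⟩
    · exact Or.inr hg
  · refine Or.inr ⟨le_rfl, Or.inr (Or.inl ?_)⟩
    haveI := ConjP.finite_field (p := 2) (n := 3) (by norm_num)
    haveI : Fintype (GaloisField 2 3) := Fintype.ofFinite _
    obtain ⟨g⟩ := CfsgLib.InvChar.psl_congr (FiniteField.ringEquivOfCardEq (K := F) (K' := GaloisField 2 3)
      (by rw [hF, ← Nat.card_eq_fintype_card, EqOrder.card_field (by norm_num)]; norm_num))
    exact eight_end h hcM (e.trans g)
  · refine Or.inr ⟨le_rfl, Or.inl ?_⟩
    have htop := j1_index h.pab M hJ hcM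
    obtain ⟨e⟩ := hJ
    let e' : G ≃* Cfsg.Spor.J1 := (Subgroup.topEquiv.symm.trans (MulEquiv.subgroupCongr htop.symm)).trans e
    exact ⟨e'.isSimpleGroup_congr.2 CfsgLib.Coset.J1.spor_isJ1.1,
      (Nat.card_congr e'.toEquiv).trans CfsgLib.Coset.J1.spor_isJ1.2⟩
  · refine Or.inr ⟨by norm_num, Or.inr (Or.inr ?_)⟩
    haveI := ConjP.finite_field (p := 2) (n := 5) (by norm_num)
    haveI : Fintype (GaloisField 2 5) := Fintype.ofFinite _
    obtain ⟨g⟩ := CfsgLib.InvChar.psl_congr (FiniteField.ringEquivOfCardEq (K := F) (K' := GaloisField 2 5)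
      (by rw [hF, ← Nat.card_eq_fintype_card, EqOrder.card_field (by norm_num)]; norm_num))
    exact thirty_two_end hcM (e.trans g) hd5

/-- Quaternion Sylow 2-subgroups. -/
theorem quaternion_case (h : PConj G) (hO : Cfsg.oddCore G = ⊥) (S : Sylow 2 G)
    (e : (S : Subgroup G) ≃* QuaternionGroup 2) :
    ∃ (p : ℕ) (_ : Fact p.Prime), (p % 8 = 3 ∨ p % 8 = 5) ∧
      (Nonempty (G ≃* Matrix.SpecialLinearGroup (Fin 2) (ZMod p)) ∨
       Nonempty (G ≃* Matrix.SpecialLinearGroup (Fin 2) (GaloisField p 3))) := by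
  haveI : Fact (Nat.Prime 2) := ⟨Nat.prime_two⟩
  have hZ : Nat.card (center G) = 2 := Cfsg.Agent.S0201.result S 0 e fun N hN hodd =>
    le_bot_iff.1 ((CfsgLib.DGroup.le_oddCore hN hodd).trans hO.le)
  have hZp : IsPGroup 2 (center G) := IsPGroup.of_card (n := 1) (by rw [hZ, pow_one])
  have hZS : center G ≤ (S : Subgroup G) := by
    rw [← S.is_maximal' (hZp.to_sup_of_normal_left S.2) le_sup_right]
    exact le_sup_left
  have hS8 : Nat.card (S : Subgroup G) = 8 := by
    rw [Nat.card_congr e.toEquiv, Nat.card_eq_fintype_card, QuaternionGroup.card]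
  -- no subgroup of index two
  have h2 : ∀ M : Subgroup G, M.index ≠ 2 := by
    intro M hM
    haveI : M.Normal := normal_of_index_eq_two hM
    set a : G := ((e.symm (QuaternionGroup.a 1) : (S : Subgroup G)) : G)
    have ha : orderOf a = 4 := by
      rw [Subgroup.orderOf_coe, e.symm.orderOf_eq, QuaternionGroup.orderOf_a_one]
    have hM4 : ∃ x ∈ M, orderOf x = 4 := by
      have hcard : 4 ∣ Nat.card ↥(M ⊓ (S : Subgroup G)) := by
        have hrel : M.relIndex (S : Subgroup G) ∣ 2 := (relIndex_dvd_index_of_normal M _).trans (dvd_of_eq hM)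
        have hmul := ((M.subgroupOf (S : Subgroup G))).card_mul_index
        rw [hS8] at hmul
        rw [← Nat.card_congr (subgroupOfEquivOfLe (inf_le_right : M ⊓ (S : Subgroup G) ≤ _)).toEquiv,
          inf_subgroupOf_right]
        rcases (Nat.dvd_prime Nat.prime_two).1 hrel with h1 | h1 <;> unfold relIndex at h1 <;>
          rw [h1] at hmul <;> omega
      by_contra hcon
      push Not at hcon
      -- all elements of the intersection square to one
      have hsq : ∀ z : ↥(M ⊓ (S : Subgroup G)), (z : G) ∈ ({1, a * a} : Set G) := by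
        rintro ⟨z, hzM, hzS⟩
        obtain ⟨k, hk⟩ := IsPGroup.iff_orderOf.1 S.2 ⟨z, hzS⟩
        rw [Subgroup.orderOf_mk] at hk
        have hk1 : k ≤ 1 := by
          by_contra hlt
          refine hcon (z ^ 2 ^ (k - 2)) (pow_mem hzM _) ?_
          rw [orderOf_pow' z (by positivity), hk, Nat.gcd_eq_right (pow_dvd_pow 2 (Nat.sub_le k 2)),
            Nat.pow_div (Nat.sub_le k 2) two_pos, show k - (k - 2) = 2 by omega]
          rfl
        have hz2 : z * z = 1 := by
          rw [← sq, ← orderOf_dvd_iff_pow_eq_one, hk]; exact pow_dvd_pow 2 hk1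
        rcases EqOrder.quaternion_generated (e ⟨z, hzS⟩) (by rw [← map_mul, ← map_one e]; exact congrArg e (Subtype.ext hz2))
          with h1 | h1
        · exact Or.inl (congrArg Subtype.val (e.map_eq_one_iff.1 h1))
        · refine Or.inr ?_
          have h3 := congrArg e.symm h1
          rw [e.symm_apply_apply, map_mul] at h3
          exact congrArg Subtype.val h3
      have hle : Nat.card ↥(M ⊓ (S : Subgroup G)) ≤ Nat.card ({1, a * a} : Set G) :=
        Nat.card_le_card_of_injective (fun z => ⟨z, hsq z⟩) fun z w hzw =>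
          Subtype.ext (congrArg (fun t : ({1, a * a} : Set G) => (t : G)) hzw)
      have h22 : Nat.card ({1, a * a} : Set G) ≤ 2 := by
        rw [Nat.card_coe_set_eq]
        exact (Set.ncard_insert_le _ _).trans (by rw [Set.ncard_singleton])
      have := Nat.le_of_dvd Nat.card_pos hcard
      omega
    obtain ⟨x, hxM, hx⟩ := hM4
    have hall : ∀ y : G, orderOf y = 4 → y ∈ M := by
      intro y hy
      obtain ⟨g, hg⟩ := h.conj_zpowers (p := 2) (k := 2) (x := x) (y := y) (by rw [hx]; rfl) (by rw [hy]; rfl)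
      obtain ⟨w, hw, hwy⟩ : y ∈ (zpowers x).map (MulAut.conj g).toMonoidHom := hg ▸ mem_zpowers y
      rw [← hwy]
      exact (inferInstance : M.Normal).conj_mem w ((zpowers_le.2 hxM) hw) g
    have hSM : (S : Subgroup G) ≤ M := by
      intro z hz
      by_cases hz4 : orderOf z = 4
      · exact hall z hz4
      · have hcases : ∀ q : QuaternionGroup 2, q ^ 2 = 1 ∨ (q ^ 2 ≠ 1 ∧ q ^ 4 = 1) := by decide
        rcases hcases (e ⟨z, hz⟩) with h1 | ⟨h1, h4⟩
        · rcases EqOrder.quaternion_generated (e ⟨z, hz⟩) (by rwa [← sq]) with h3 | h3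
          · have : z = 1 := congrArg Subtype.val (e.map_eq_one_iff.1 h3)
            rw [this]; exact one_mem M
          · have h5 := congrArg e.symm h3
            rw [e.symm_apply_apply, map_mul] at h5
            rw [show z = a * a from congrArg Subtype.val h5]
            exact mul_mem (hall a ha) (hall a ha)
        · exfalso
          apply hz4
          have ho : orderOf (e ⟨z, hz⟩) = 2 ^ (1 + 1) := orderOf_eq_prime_pow (by simpa using h1) (by simpa using h4)
          rw [e.orderOf_eq, Subgroup.orderOf_mk] at ho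
          exact ho
    exact S.not_dvd_index ((dvd_of_eq hM.symm).trans (index_dvd_of_le hSM))
  -- the quotient by the centre
  haveI : (center G).Normal := inferInstance
  set π := QuotientGroup.mk' (center G)
  have hπ : Function.Surjective π := QuotientGroup.mk'_surjective _
  set T := S.mapSurjective (f := π) hπ
  have hTS : ∀ y ∈ (T : Subgroup (G ⧸ center G)), y * y = 1 := by
    rintro _ ⟨x, hx, rfl⟩
    rw [← map_mul]
    refine (QuotientGroup.eq_one_iff _).2 ?_
    haveI : Nontrivial (center G) := by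
      rw [← Finite.one_lt_card_iff_nontrivial, hZ]; norm_num
    obtain ⟨z, hz⟩ := exists_ne (1 : center G)
    have hzz : (z : G) * z = 1 := by
      have := orderOf_dvd_natCard z
      rw [hZ, orderOf_dvd_iff_pow_eq_one, sq] at this
      exact congrArg Subtype.val this
    rcases EqOrder.quaternion_squares (e ⟨z, hZS z.2⟩) (e ⟨x, hx⟩)
      (fun h1 => hz (Subtype.ext (show (z : G) = 1 from congrArg Subtype.val (e.map_eq_one_iff.1 h1))))
      (by rw [← map_mul, ← map_one e]; exact congrArg e (Subtype.ext hzz)) with h1 | h1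
    · rw [← map_mul, e.map_eq_one_iff] at h1
      rw [show x * x = 1 from congrArg Subtype.val h1]
      exact one_mem _
    · rw [← map_mul] at h1
      rw [show x * x = z from congrArg Subtype.val (e.injective h1)]
      exact z.2
  have hTc : Nat.card (T : Subgroup (G ⧸ center G)) = 2 ^ 2 := by
    have hk : Nat.card ↥((center G).subgroupOf (S : Subgroup G)) = 2 := by
      rw [Nat.card_congr (subgroupOfEquivOfLe hZS).toEquiv, hZ]
    have hrange : (π.comp (S : Subgroup G).subtype).range = (T : Subgroup (G ⧸ center G)) := by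
      rw [MonoidHom.range_comp, range_subtype]; rfl
    have hker : (π.comp (S : Subgroup G).subtype).ker = (center G).subgroupOf (S : Subgroup G) := by
      rw [← MonoidHom.comap_ker, QuotientGroup.ker_mk']; rfl
    have h1 := ((center G).subgroupOf (S : Subgroup G)).card_mul_index
    rw [← hker, index_ker, hrange, hker, hk, hS8] at h1
    norm_num
    omega
  have hO' : Cfsg.oddCore (G ⧸ center G) = ⊥ := CfsgLib.GWApps.oddCore_quotient_central hZ hO
  by_cases hn : (T : Subgroup (G ⧸ center G)).Normal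
  · haveI := hn
    obtain ⟨f⟩ := normal_two (h.quotient _) hO' T hTS (hTc.trans (by norm_num))
    refine ⟨3, ⟨Nat.prime_three⟩, Or.inl rfl, Or.inl ?_⟩
    haveI : Group.IsSolvable G := CfsgLib.Char.isSolvable_of_card_eq 2 3 3 1 Nat.prime_two Nat.prime_three (by
      rw [card_eq_card_quotient_mul_card_subgroup (center G), hZ, Nat.card_congr f.toEquiv,
        nat_card_alternatingGroup, Nat.card_fin]
      rfl)
    haveI : Group.IsSolvable (⊤ : Subgroup G) := inferInstance
    refine (CfsgLib.GWApps.QNormal.solvable_case (H := G) (K := ⊤) ?_ ?_ ?_).map fun g =>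
      Subgroup.topEquiv.symm.trans g
    · intro P
      refine ⟨1, le_rfl, ⟨?_⟩⟩
      have e1 : (P : Subgroup (⊤ : Subgroup G)) ≃* ((S.subtype (le_top : (S : Subgroup G) ≤ ⊤)) : Subgroup (⊤ : Subgroup G)) :=
        P.equiv _
      exact e1.trans ((subgroupOfEquivOfLe (le_top : (S : Subgroup G) ≤ ⊤)).trans e)
    · refine le_bot_iff.1 fun x hx => ?_
      have hn : ((Cfsg.oddCore (⊤ : Subgroup G)).map (⊤ : Subgroup G).subtype).Normal :=
        (inferInstance : (Cfsg.oddCore (⊤ : Subgroup G)).Normal).map _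
          fun y => ⟨⟨y, mem_top y⟩, rfl⟩
      have hle := CfsgLib.DGroup.le_oddCore hn (by
        rw [card_map_of_injective (⊤ : Subgroup G).subtype_injective]
        exact CfsgLib.DGroup.odd_oddCore _)
      have := hle ⟨x, hx, rfl⟩
      rw [hO, mem_bot] at this
      exact mem_bot.2 (Subtype.ext this)
    · intro M hM
      refine h2 (M.map (⊤ : Subgroup G).subtype) ?_
      rw [index_map_subtype, hM, index_top, mul_one]
  · rcases not_normal (h.quotient _) hO' T hTS le_rfl hTc hn with ⟨-, p, hp, hp8, hcase⟩ | ⟨h3, -⟩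
    swap
    · omega
    haveI := hp
    have key : ∀ (K : Type) [Field K] [Fintype K], Odd (Fintype.card K) → 3 < Fintype.card K →
        (G ⧸ center G ≃* Matrix.ProjectiveSpecialLinearGroup (Fin 2) K) →
        Nonempty (G ≃* Matrix.SpecialLinearGroup (Fin 2) K) := by
      intro K _ _ hodd h3 f
      haveI : IsSimpleGroup (Matrix.ProjectiveSpecialLinearGroup (Fin 2) K) :=
        CfsgLib.Linear.isSimpleGroup_PSL (Or.inr (CfsgLib.Linear.Small.exists_sq_ne_one (F := K) (by omega)))
      haveI : IsSimpleGroup (G ⧸ center G) := f.isSimpleGroup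
      have hperf : commutator G = ⊤ := by
        set D := commutator G
        have hA : commutator (G ⧸ center G) = ⊤ := by
          rcases (inferInstance : (commutator (G ⧸ center G)).Normal).eq_bot_or_eq_top with hb | hb
          · exfalso
            have hcomm : ∀ a b : G ⧸ center G, a * b = b * a := fun a b =>
              commutatorElement_eq_one_iff_mul_comm.1 ((mem_bot).1 (hb ▸
                commutator_mem_commutator (mem_top a) (mem_top b)))
            letI : CommGroup (G ⧸ center G) :=
              { (inferInstance : Group (G ⧸ center G)) with mul_comm := hcomm }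
            have hp := IsSimpleGroup.prime_card (α := G ⧸ center G)
            have h4 : 4 ∣ Nat.card (G ⧸ center G) := by
              rw [show (4 : ℕ) = 2 ^ 2 by norm_num, ← hTc]
              exact card_subgroup_dvd_card _
            rcases (Nat.dvd_prime hp).1 h4 with h5 | h5
            · norm_num at h5
            · rw [← h5] at hp
              norm_num at hp
          · exact hb
        have hDmap : D.map π = ⊤ := by
          show (commutator G).map π = ⊤
          rw [← hA, _root_.commutator_def, _root_.commutator_def, map_commutator,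
            Subgroup.map_top_of_surjective π hπ]
        have htop : D ⊔ center G = ⊤ := by
          have := Subgroup.comap_map_eq π D
          rw [hDmap, comap_top, QuotientGroup.ker_mk'] at this
          exact this.symm
        by_contra hne
        apply h2 D
        have h5 : D.index ∣ 2 := by
          have := relIndex_sup_right (H := center G) (K := D)
          rw [sup_comm, htop, relIndex_top_right] at this
          rw [this, ← hZ]
          exact relIndex_dvd_card _ _
        rcases (Nat.dvd_prime Nat.prime_two).1 h5 with h6 | h6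
        · exact absurd (index_eq_one.1 h6) hne
        · exact h6
      have hk : (f.toMonoidHom.comp π).ker = center G := by
        ext x; simp [π]
      exact CfsgLib.GWApps.cover_sl hodd h3 hperf (f.toMonoidHom.comp π) (f.surjective.comp hπ) hk.le
        (by rw [hk]; exact hZ)
    refine ⟨p, hp, hp8, ?_⟩
    have hpo : p ≠ 2 := by omega
    rcases hcase with ⟨hp3, ⟨f⟩⟩ | ⟨⟨f⟩⟩
    · refine Or.inl (key (ZMod p) ?_ ?_ f)
      · rw [ZMod.card]; exact hp.out.odd_of_ne_two hpo
      · rw [ZMod.card]; exact hp3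
    · haveI := ConjP.finite_field (p := p) (n := 3) (by norm_num)
      haveI : Fintype (GaloisField p 3) := Fintype.ofFinite _
      refine Or.inr (key (GaloisField p 3) ?_ ?_ f)
      · rw [← Nat.card_eq_fintype_card, GaloisField.card p 3 (by norm_num)]
        exact (hp.out.odd_of_ne_two hpo).pow
      · rw [← Nat.card_eq_fintype_card, GaloisField.card p 3 (by norm_num)]
        have := Nat.pow_le_pow_left hp.out.two_le 3
        omega

/-- The classification of the quotient by the odd core. -/
theorem classify (h : PConj G) (hO : Cfsg.oddCore G = ⊥) :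
    (IsCyclic G ∧ IsPGroup 2 G) ∨
    Nonempty (G ≃* Cfsg.affineGroup (GaloisField 2 3)) ∨
    Nonempty (G ≃* Cfsg.semiaffineGroup (GaloisField 2 3)) ∨
    Nonempty (G ≃* Cfsg.semiaffineGroup (GaloisField 2 5)) ∨
    Cfsg.IsJ1 G ∨
    Nonempty (G ≃* Matrix.ProjectiveSpecialLinearGroup (Fin 2) (GaloisField 2 3)) ∨
    Nonempty (G ≃* MulAut (Matrix.ProjectiveSpecialLinearGroup (Fin 2) (GaloisField 2 5))) ∨
    (∃ (p : ℕ) (_ : Fact p.Prime), (p % 8 = 3 ∨ p % 8 = 5) ∧
      (Nonempty (G ≃* Matrix.ProjectiveSpecialLinearGroup (Fin 2) (ZMod p)) ∨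
       Nonempty (G ≃* Matrix.ProjectiveSpecialLinearGroup (Fin 2) (GaloisField p 3)) ∨
       Nonempty (G ≃* Matrix.SpecialLinearGroup (Fin 2) (ZMod p)) ∨
       Nonempty (G ≃* Matrix.SpecialLinearGroup (Fin 2) (GaloisField p 3)))) := by
  haveI : Fact (Nat.Prime 2) := ⟨Nat.prime_two⟩
  obtain ⟨S⟩ : Nonempty (Sylow 2 G) := inferInstance
  rcases h.sylow_cases S with hS | ⟨⟨e⟩⟩ | hS
  · exact Or.inl (cyclic_case hO S hS)
  · obtain ⟨p, hp, hp8, hg⟩ := quaternion_case h hO S e
    exact Or.inr (Or.inr (Or.inr (Or.inr (Or.inr (Or.inr (Or.inr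
      ⟨p, hp, hp8, Or.inr (Or.inr hg)⟩))))))
  · obtain ⟨n, hn⟩ := IsPGroup.iff_card.1 S.2
    rcases Nat.lt_or_ge n 2 with hn2 | hn2
    · refine Or.inl (cyclic_case hO S ?_)
      rcases Nat.eq_zero_or_pos n with rfl | hpos
      · haveI : Subsingleton (S : Subgroup G) :=
          (Nat.card_eq_one_iff_unique.1 (by rw [hn, pow_zero])).1
        exact isCyclic_of_subsingleton
      · exact isCyclic_of_prime_card (p := 2) (by rw [hn, show n = 1 by omega, pow_one])
    by_cases hne : (S : Subgroup G).Normal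
    · haveI := hne
      rcases eq_or_lt_of_le hn2 with rfl | hn3
      · obtain ⟨f⟩ := normal_two h hO S hS (hn.trans (by norm_num))
        obtain ⟨g⟩ := Cfsg.Agent.S0251.result (F := ZMod 3) (ZMod.card 3)
        exact Or.inr (Or.inr (Or.inr (Or.inr (Or.inr (Or.inr (Or.inr
          ⟨3, ⟨Nat.prime_three⟩, Or.inl rfl, Or.inl ⟨f.trans g.symm⟩⟩))))))
      · rcases normal_big h hO S hS hn3 hn with h' | h' | h'
        · exact Or.inr (Or.inl h')
        · exact Or.inr (Or.inr (Or.inl h'))
        · exact Or.inr (Or.inr (Or.inr (Or.inl h')))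
    · rcases not_normal h hO S hS hn2 hn hne with ⟨-, p, hp, hp8, hcase⟩ | ⟨-, h' | h' | h'⟩
      · refine Or.inr (Or.inr (Or.inr (Or.inr (Or.inr (Or.inr (Or.inr ⟨p, hp, hp8, ?_⟩))))))
        rcases hcase with ⟨-, hg⟩ | hg
        · exact Or.inl hg
        · exact Or.inr (Or.inl hg)
      · exact Or.inr (Or.inr (Or.inr (Or.inr (Or.inl h'))))
      · exact Or.inr (Or.inr (Or.inr (Or.inr (Or.inr (Or.inl h')))))
      · exact Or.inr (Or.inr (Or.inr (Or.inr (Or.inr (Or.inr (Or.inl h'))))))

end CfsgLib.EightCore.Rows
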