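import Cfsg.Agent.EightCore.Rows.Auto
import Cfsg.Agent.EightCore.PSLFacts
import Cfsg.Agent.AbelianSolvCent.Main
import Cfsg.Agent.GW.Top.Statement
import Cfsg.Agent.Bender.StructureMain
import Cfsg.Agent.PrimePairs.Shapes

/-!
# The consumers of the core theorem: Sylow 2-subgroups of order 32
-/

set_option autoImplicit false
set_option linter.unusedSectionVars false
set_option linter.style.haveILetI false

namespace CfsgLib.EightCore.Rows

open Subgroup
open CfsgLib.Linear.SmallSub (P2)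

universe u

variable {G : Type u} [Group G] [Finite G] {S : Sylow 2 G}

/-- A normaliser element of an image of a Sylow subgroup lifts. -/
theorem lift_normalizer {C Y : Type*} [Group C] [Finite C] [Group Y] (f : C →* Y) (hf : Function.Surjective f)
    (P : Sylow 2 C) {y : Y} (hy : y ∈ normalizer (((P : Subgroup C).map f : Subgroup Y) : Set Y)) :
    ∃ n ∈ normalizer ((P : Subgroup C) : Set C), f n = y := by
  haveI : Fact (Nat.Prime 2) := ⟨Nat.prime_two⟩
  obtain ⟨c, rfl⟩ := hf y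
  set U := f.ker ⊔ (P : Subgroup C) with hU
  have hPU : (P : Subgroup C) ≤ U := le_sup_right
  have hU' : U = ((P : Subgroup C).map f).comap f := by rw [comap_map_eq, sup_comm]
  have hle : ((c • P : Sylow 2 C) : Subgroup C) ≤ U := by
    intro z hz
    rw [Sylow.coe_subgroup_smul] at hz
    obtain ⟨w, hw, rfl⟩ := hz
    rw [hU', mem_comap]
    show f (c * w * c⁻¹) ∈ _
    rw [map_mul, map_mul, map_inv]
    exact (mem_normalizer_iff.1 hy _).1 ⟨w, hw, rfl⟩
  obtain ⟨w, hw⟩ := MulAction.exists_smul_eq ↥U ((c • P).subtype hle) (P.subtype hPU)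
  have hn : ((w : C) * c) ∈ normalizer ((P : Subgroup C) : Set C) := by
    refine Sylow.smul_eq_iff_mem_normalizer.1 ?_
    rw [mul_smul]
    exact Sylow.subtype_injective ((Sylow.smul_subtype hle w).symm.trans hw)
  have hw2 : (w : C) ∈ (P : Subgroup C) ⊔ f.ker := by rw [sup_comm]; exact w.2
  obtain ⟨s, hs, k, hk, e⟩ := Subgroup.mem_sup_of_normal_right.1 hw2
  refine ⟨s⁻¹ * ((w : C) * c), mul_mem (inv_mem (le_normalizer hs)) hn, ?_⟩
  rw [← e, show s⁻¹ * (s * k * c) = k * c by group, map_mul, MonoidHom.mem_ker.1 hk, one_mul]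

/-- The involutions of `PSL₂(q)` are conjugate. -/
theorem psl_one_class {N : Type u} [Group N] [Finite N] {F : Type} [Field F] [Fintype F]
    (hF : ((Fintype.card F % 8 = 3 ∨ Fintype.card F % 8 = 5) ∧ 5 ≤ Fintype.card F) ∨
      (∃ n : ℕ, 2 ≤ n ∧ Fintype.card F = 2 ^ n))
    (e : N ≃* P2 F) {a b : N} (ha : orderOf a = 2) (hb : orderOf b = 2) : IsConj a b := by
  rcases hF with ⟨h8, -⟩ | ⟨n, -, hn⟩
  · have hodd : Odd (Fintype.card F) := Nat.odd_iff.2 (by omega)
    have key : ∀ x : N, orderOf x = 2 → e x * e x = 1 ∧ e x ≠ 1 := fun x hx =>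
      ⟨by rw [← map_mul, ← pow_two, show x ^ 2 = 1 from orderOf_dvd_iff_pow_eq_one.1 hx.dvd, map_one],
        fun h => by rw [e.map_eq_one_iff.1 h, orderOf_one] at hx; omega⟩
    have h1 := e.symm.toMonoidHom.map_isConj (Linear.FourGroups.involutions_conj hodd (key a ha).1
      (key a ha).2 (key b hb).1 (key b hb).2)
    simpa using h1
  · haveI : Fact (Nat.Prime 2) := ⟨Nat.prime_two⟩
    haveI : CharP F 2 := charP_of_card_eq_prime_pow hn
    exact PrimePairs.invol_conj_even e ha hb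

variable (hS : ∀ x ∈ (S : Subgroup G), x * x = 1) (hA : Auto32 S)

include hS hA

/-- The centraliser of two involutions of `S`. -/
theorem solvable_cent_two {t u : G} (ht : t ∈ (S : Subgroup G)) (hu : u ∈ (S : Subgroup G)) (ht1 : t ≠ 1)
    (hu1 : u ≠ 1) (htu : t ≠ u) :
    Group.IsSolvable ↥(centralizer ({t} : Set G) ⊓ centralizer ({u} : Set G)) := by
  set D := centralizer ({t} : Set G) ⊓ centralizer ({u} : Set G)
  have hSD : (S : Subgroup G) ≤ D := fun x hx => mem_inf.2
    ⟨mem_centralizer_singleton_iff.2 (EqOrder.sylow_comm S hS hx ht).eq,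
      mem_centralizer_singleton_iff.2 (EqOrder.sylow_comm S hS hx hu).eq⟩
  obtain ⟨R, hR, hRo, hall⟩ := DGroup.exists_compl_of_burnside (S.subtype hSD) fun g hg => by
    have hgS : (g : G) ∈ normalizer ((S : Subgroup G) : Set G) := by
      refine mem_normalizer_iff.2 fun x => ?_
      constructor
      · intro hx
        exact (mem_normalizer_iff.1 hg ⟨x, hSD hx⟩).1 hx
      · intro hx
        have hxD : x ∈ D := by
          have := mul_mem (mul_mem (inv_mem g.2) (hSD hx)) g.2
          simpa [mul_assoc] using this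
        exact (mem_normalizer_iff.1 hg ⟨x, hxD⟩).2 hx
    have hc := hA.fixed g hgS t ht u hu ht1 hu1 htu
      (mem_centralizer_singleton_iff.1 g.2.1) (mem_centralizer_singleton_iff.1 g.2.2)
    exact mem_centralizer_iff.2 fun x hx => Subtype.ext (mem_centralizer_iff.1 hc (x : G) hx)
  haveI := hR
  exact DGroup.solvable_of_odd_mem R hRo hall

/-- The centralisers of involutions are solvable. -/
theorem solvable_cent {t : G} (ht : t ∈ (S : Subgroup G)) (ht1 : t ≠ 1) :
    Group.IsSolvable ↥(centralizer ({t} : Set G)) := by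
  haveI : Fact (Nat.Prime 2) := ⟨Nat.prime_two⟩
  set C := centralizer ({t} : Set G) with hC
  have hto : orderOf t = 2 := orderOf_eq_prime (by rw [pow_two]; exact hS t ht) ht1
  have htC : t ∈ C := mem_centralizer_singleton_iff.2 rfl
  set tc : C := ⟨t, htC⟩
  set Z := zpowers tc
  have hcent : ∀ c : C, Commute c tc := fun c => Subtype.ext (mem_centralizer_singleton_iff.1 c.2)
  have hZc : Z ≤ center C := zpowers_le.2 (mem_center_iff.2 fun g => (hcent g).eq)
  haveI hZn : Z.Normal := ⟨fun z hz g => by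
    rw [mem_center_iff.1 (hZc hz) g, mul_inv_cancel_right]; exact hz⟩
  have htco : orderOf tc = 2 := by rw [← orderOf_coe]; exact hto
  have hZmem : ∀ {z : C}, z ∈ Z → z = 1 ∨ z = tc := by
    intro z hz
    obtain ⟨i, rfl⟩ := mem_zpowers_iff.1 hz
    rw [← zpow_mod_orderOf, htco]
    rcases Int.emod_two_eq_zero_or_one i with h | h <;> push_cast <;> rw [h]
    · exact Or.inl (zpow_zero _)
    · exact Or.inr (zpow_one _)
  haveI : Group.IsSolvable Z := inferInstance
  suffices hQ : Group.IsSolvable (C ⧸ Z) from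
    (Group.isSolvable_iff_subgroup_quotient Z).2 ⟨inferInstance, hQ⟩
  set π := QuotientGroup.mk' Z
  have hπ : Function.Surjective π := QuotientGroup.mk'_surjective Z
  have hSC : (S : Subgroup G) ≤ C := fun x hx =>
    mem_centralizer_singleton_iff.2 (EqOrder.sylow_comm S hS hx ht).eq
  set P : Sylow 2 C := S.subtype hSC
  have hPm : ∀ {x : C}, x ∈ (P : Subgroup C) ↔ (x : G) ∈ (S : Subgroup G) := Iff.rfl
  set T : Sylow 2 (C ⧸ Z) := P.mapSurjective hπ
  have hTm : (T : Subgroup (C ⧸ Z)) = (P : Subgroup C).map π := rfl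
  have hTc : IsMulCommutative (T : Subgroup (C ⧸ Z)) := by
    refine ⟨⟨?_⟩⟩
    rintro ⟨_, a, ha, rfl⟩ ⟨_, b, hb, rfl⟩
    refine Subtype.ext ?_
    show π a * π b = π b * π a
    rw [← map_mul, ← map_mul]
    exact congrArg π (Subtype.ext (EqOrder.sylow_comm S hS (hPm.1 ha) (hPm.1 hb)).eq)
  have hinv : ∀ v : C ⧸ Z, orderOf v = 2 → Group.IsSolvable ↥(centralizer ({v} : Set (C ⧸ Z))) := by
    intro v hv
    obtain ⟨P', hP'⟩ := (IsPGroup.of_card (n := 1) (by rw [Nat.card_zpowers, hv, pow_one]) :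
      IsPGroup 2 (zpowers v)).exists_le_sylow
    obtain ⟨g, hg⟩ := MulAction.exists_smul_eq (C ⧸ Z) P' T
    have hgv : g * v * g⁻¹ ∈ (T : Subgroup (C ⧸ Z)) := by
      rw [← hg, Sylow.coe_subgroup_smul]
      exact ⟨v, hP' (mem_zpowers v), rfl⟩
    rw [hTm] at hgv
    obtain ⟨x, hx, hxv⟩ := hgv
    have hwo : orderOf (π x) = 2 := by
      rw [hxv]; exact (orderOf_injective (MulAut.conj g).toMonoidHom (MulAut.conj g).injective v).trans hv
    suffices hw : Group.IsSolvable ↥(centralizer ({π x} : Set (C ⧸ Z))) by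
      let φ : ↥(centralizer ({v} : Set (C ⧸ Z))) →* ↥(centralizer ({π x} : Set (C ⧸ Z))) :=
        ((MulAut.conj g).toMonoidHom.comp (centralizer ({v} : Set (C ⧸ Z))).subtype).codRestrict _ fun z => by
          refine mem_centralizer_singleton_iff.2 ?_
          show g * (z : C ⧸ Z) * g⁻¹ * π x = π x * (g * (z : C ⧸ Z) * g⁻¹)
          rw [hxv, conj_mul, conj_mul, mem_centralizer_singleton_iff.1 z.2]
      haveI := hw
      exact Group.isSolvable_of_isSolvable_injective (f := φ)
        fun a b hab => Subtype.ext ((MulAut.conj g).injective (congrArg Subtype.val hab))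
    have hx1 : (x : G) ≠ 1 := fun e => by
      rw [show x = 1 from Subtype.ext e, map_one, orderOf_one] at hwo; omega
    have hxt : t ≠ (x : G) := fun e => by
      rw [show π x = 1 from (QuotientGroup.eq_one_iff _).2 (by
        rw [show x = tc from Subtype.ext e.symm]; exact mem_zpowers tc), orderOf_one] at hwo
      omega
    set D := (centralizer ({π x} : Set (C ⧸ Z))).comap π
    have hDz : ∀ a : D, x⁻¹ * ((a : C) * x * (a : C)⁻¹) ∈ Z := fun a => by
      rw [← QuotientGroup.eq_one_iff]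
      show π (x⁻¹ * ((a : C) * x * (a : C)⁻¹)) = 1
      rw [map_mul, map_mul, map_mul, map_inv, map_inv, mem_centralizer_singleton_iff.1 (mem_comap.1 a.2),
        mul_inv_cancel_right, inv_mul_cancel]
    let χ : D →* Z := MonoidHom.mk' (fun a => ⟨_, hDz a⟩) fun a b => by
      refine Subtype.ext ?_
      show x⁻¹ * ((((a * b : D)) : C) * x * (((a * b : D)) : C)⁻¹) = _
      have hz := mem_center_iff.1 (hZc (hDz b)) (a : C)
      calc x⁻¹ * (((a * b : D) : C) * x * ((a * b : D) : C)⁻¹)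
          = x⁻¹ * ((a : C) * x * (x⁻¹ * ((b : C) * x * (b : C)⁻¹)) * (a : C)⁻¹) := by
            rw [Subgroup.coe_mul]; group
        _ = x⁻¹ * ((a : C) * x * (a : C)⁻¹) * (x⁻¹ * ((b : C) * x * (b : C)⁻¹)) := by
            have hz' := mem_center_iff.1 (hZc (hDz b)) (a : C)⁻¹
            rw [mul_assoc ((a : C) * x) _ (a : C)⁻¹, ← hz']
            group
    have hker : Group.IsSolvable χ.ker := by
      haveI := solvable_cent_two hS hA ht (hPm.1 hx) ht1 hx1 hxt
      refine Group.isSolvable_of_isSolvable_injective (f := (MonoidHom.codRestrict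
        (C.subtype.comp (D.subtype.comp χ.ker.subtype))
        (centralizer ({t} : Set G) ⊓ centralizer ({(x : G)} : Set G)) fun a => ?_)) ?_
      · refine mem_inf.2 ⟨((a : D) : C).2, mem_centralizer_singleton_iff.2 ?_⟩
        have h : x⁻¹ * (((a : D) : C) * x * ((a : D) : C)⁻¹) = 1 :=
          congrArg Subtype.val (MonoidHom.mem_ker.1 a.2)
        have h2 := congrArg Subtype.val (inv_mul_eq_one.1 h)
        simp only [Subgroup.coe_mul, Subgroup.coe_inv] at h2
        exact (eq_mul_inv_iff_mul_eq.1 h2).symm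
      · intro a b hab
        exact Subtype.ext (Subtype.ext (Subtype.ext (congrArg Subtype.val hab :)))
    haveI := hker
    haveI : Group.IsSolvable D := Group.isSolvable_of_ker_le_range χ.ker.subtype χ (by rw [range_subtype])
    exact Group.isSolvable_of_surjective (f := π.subgroupComap (centralizer ({π x} : Set (C ⧸ Z))))
      (MonoidHom.subgroupComap_surjective_of_surjective _ _ hπ)
  rcases AbelianSolvCent.main Bender.Consumers.structure_all GW.Top.statement T hTc hinv with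
    hs | ⟨F, i1, i2, hF, N, hNn, ⟨e⟩, hNC⟩
  · exact hs
  exfalso
  -- the orbit on the involutions of `N`
  set ρ := (QuotientGroup.mk' (Cfsg.oddCore (C ⧸ Z))).comp π
  haveI := DGroup.normal_oddCore (C ⧸ Z)
  have hρ : Function.Surjective ρ := (QuotientGroup.mk'_surjective _).comp hπ
  set Y := (C ⧸ Z) ⧸ Cfsg.oddCore (C ⧸ Z)
  set T' : Sylow 2 Y := P.mapSurjective hρ
  have hT'c : IsMulCommutative (T' : Subgroup Y) := by
    refine ⟨⟨?_⟩⟩
    rintro ⟨_, a, ha, rfl⟩ ⟨_, b, hb, rfl⟩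
    refine Subtype.ext ?_
    show ρ a * ρ b = ρ b * ρ a
    rw [← map_mul, ← map_mul]
    exact congrArg ρ (Subtype.ext (EqOrder.sylow_comm S hS (hPm.1 ha) (hPm.1 hb)).eq)
  haveI := hNn
  have h3F : 4 ≤ Fintype.card F := by
    rcases hF with ⟨-, h⟩ | ⟨n, hn, h⟩
    · omega
    · rw [h]; exact (Nat.pow_le_pow_right (by norm_num) hn : 2 ^ 2 ≤ 2 ^ n)
  haveI : IsSimpleGroup (P2 F) := 
    CfsgLib.Linear.isSimpleGroup_PSL (Or.inr (CfsgLib.Linear.Small.exists_sq_ne_one (F := F) (by omega)))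
  haveI : IsSimpleGroup N := e.isSimpleGroup
  have hna : ¬ IsMulCommutative N := fun h => by
    haveI : Nontrivial N := IsSimpleGroup.toNontrivial
    refine (nontrivial_iff_ne_bot N).1 inferInstance (le_bot_iff.1 (hNC ▸ ?_))
    exact fun z hz => mem_centralizer_iff.2 fun w hw => congrArg Subtype.val (h.is_comm.comm ⟨w, hw⟩ ⟨z, hz⟩)
  obtain ⟨a, b, hab⟩ := exists_pair hna
  have hab' := Pair.map N.subtype N.subtype_injective hab
  obtain ⟨R, hR⟩ := hab'.isPGroup.exists_le_sylow
  obtain ⟨g, hg⟩ := MulAction.exists_smul_eq Y R T'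
  set U : Set Y := (((T' : Subgroup Y) ⊓ N : Subgroup Y) : Set Y) \ {1}
  set a' := g * (a : Y) * g⁻¹
  have hfour : 4 ∣ Nat.card ↥((T' : Subgroup Y) ⊓ N) := by
    have hle : (pairGroup (a : Y) (b : Y)).map (MulAut.conj g).toMonoidHom ≤ (T' : Subgroup Y) ⊓ N := by
      rintro _ ⟨z, hz, rfl⟩
      refine mem_inf.2 ⟨?_, hNn.conj_mem z ((sup_le (zpowers_le.2 a.2) (zpowers_le.2 b.2) :
        pairGroup (a : Y) (b : Y) ≤ N) hz) g⟩
      rw [← hg, Sylow.coe_subgroup_smul]
      exact ⟨z, hR hz, rfl⟩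
    have := card_dvd_of_le hle
    rwa [card_map_of_injective (MulAut.conj g).injective, show Nat.card (pairGroup (a : Y) (b : Y)) = 2 ^ 2
      from hab'.card] at this
  have hUcard : U.ncard + 1 = Nat.card ↥((T' : Subgroup Y) ⊓ N) := by
    rw [← SetLike.coe_sort_coe, Nat.card_coe_set_eq]
    exact Set.ncard_diff_singleton_add_one (one_mem _) (Set.toFinite _)
  have ha'U : a' ∈ U := by
    refine ⟨mem_inf.2 ⟨?_, hNn.conj_mem _ a.2 g⟩, fun h => ?_⟩
    · rw [← hg, Sylow.coe_subgroup_smul]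
      exact ⟨_, hR (mem_sup_left (mem_zpowers _)), rfl⟩
    · have h2 := hab'.ha
      rw [show (N.subtype a : Y) = 1 from conj_eq_one_iff.1 h, orderOf_one] at h2
      omega
  obtain ⟨⟨x, hx, hxa⟩, -⟩ := mem_inf.1 ha'U.1
  set A := C ⊓ normalizer ((S : Subgroup G) : Set G)
  letI : MulAction A Y := MulAction.compHom Y (MulAut.conj.comp (ρ.comp (inclusion inf_le_left)))
  have hsmul : ∀ (c : A) (y : Y), c • y = ρ (inclusion inf_le_left c) * y * (ρ (inclusion inf_le_left c))⁻¹ :=
    fun _ _ => rfl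
  have hord : ∀ y ∈ U, orderOf y = 2 := fun y hy => by
    obtain ⟨z, hz, rfl⟩ := (mem_inf.1 hy.1).1
    refine orderOf_eq_prime ?_ hy.2
    rw [pow_two, ← map_mul, show z * z = 1 from Subtype.ext (hS _ (hPm.1 hz)), map_one]
  have horb : MulAction.orbit A a' = U := by
    ext y
    constructor
    · rintro ⟨c, rfl⟩
      show c • a' ∈ U
      rw [hsmul]
      refine ⟨mem_inf.2 ⟨⟨inclusion inf_le_left c * x * (inclusion inf_le_left c)⁻¹, hPm.2 ?_, ?_⟩,
        hNn.conj_mem _ ha'U.1.2 _⟩, fun h => ha'U.2 (conj_eq_one_iff.1 h)⟩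
      · exact (mem_normalizer_iff.1 c.2.2 _).1 (hPm.1 hx)
      · rw [map_mul, map_mul, map_inv, hxa]
    · intro hy
      obtain ⟨d, hd⟩ := isConj_iff.1 (psl_one_class hF e (a := (⟨a', ha'U.1.2⟩ : N)) (b := ⟨y, hy.1.2⟩)
        (by rw [← orderOf_coe]; exact hord a' ha'U) (by rw [← orderOf_coe]; exact hord y hy))
      have hd' : (d : Y) * a' * (d : Y)⁻¹ = y := congrArg Subtype.val hd
      obtain ⟨n, hn, hn'⟩ := ConjP.fused_in_normalizer T' hT'c (H := zpowers a') (K := zpowers y)
        (zpowers_le.2 ha'U.1.1) (zpowers_le.2 hy.1.1) (g := (d : Y)) (by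
          rw [MonoidHom.map_zpowers, ← hd']; rfl)
      have hny : n * a' * n⁻¹ = y := by
        rw [MonoidHom.map_zpowers] at hn'
        obtain ⟨i, hi⟩ := mem_zpowers_iff.1 (hn'.symm ▸ mem_zpowers ((MulAut.conj n) a') :
          n * a' * n⁻¹ ∈ zpowers y)
        rw [← zpow_mod_orderOf, hord y hy] at hi
        rcases Int.emod_two_eq_zero_or_one i with h | h <;> push_cast at hi <;> rw [h] at hi
        · rw [zpow_zero, eq_comm, conj_eq_one_iff] at hi
          exact absurd hi ha'U.2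
        · rw [zpow_one] at hi; exact hi.symm
      obtain ⟨c, hc, rfl⟩ := lift_normalizer ρ hρ P hn
      have hcS : (c : G) ∈ normalizer ((S : Subgroup G) : Set G) := by
        refine mem_normalizer_iff.2 fun z => ⟨fun hz => (mem_normalizer_iff.1 hc ⟨z, hSC hz⟩).1 hz, fun hz => ?_⟩
        have hzC : z ∈ C := by
          have := mul_mem (mul_mem (inv_mem c.2) (hSC hz)) c.2
          simpa [mul_assoc] using this
        exact (mem_normalizer_iff.1 hc ⟨z, hzC⟩).2 hz
      refine ⟨⟨c, c.2, hcS⟩, ?_⟩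
      show (⟨(c : G), c.2, hcS⟩ : A) • a' = y
      rw [hsmul]
      exact hny
  have h5 : U.ncard ∣ 5 := by
    rw [← horb, ← MulAction.index_stabilizer]
    refine dvd_trans (index_dvd_of_le (H := (centralizer ((S : Subgroup G) : Set G)).subgroupOf A) fun c hc => ?_)
      (hA.five t ht ht1 A inf_le_right inf_le_left)
    rw [MulAction.mem_stabilizer_iff, hsmul, ← hxa, ← map_inv, ← map_mul, ← map_mul]
    exact congrArg ρ (Subtype.ext (by
      show (c : G) * (x : G) * (c : G)⁻¹ = x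
      rw [← mem_centralizer_iff.1 (mem_subgroupOf.1 hc) _ (hPm.1 hx), mul_inv_cancel_right]))
  obtain ⟨k, hk⟩ := IsPGroup.iff_card.1 (T'.2.to_le (inf_le_left : (T' : Subgroup Y) ⊓ N ≤ T'))
  rw [hk] at hfour hUcard
  have hk2 : 2 ≤ k := (Nat.pow_dvd_pow_iff_le_right (show 1 < 2 by norm_num)).1 (show 2 ^ 2 ∣ 2 ^ k from hfour)
  have := Nat.pow_le_pow_right (show 0 < 2 by norm_num) hk2
  rcases (Nat.dvd_prime Nat.prime_five).1 h5 with h | h
  · omega
  · rw [h] at hUcard
    rcases (show k = 2 ∨ 3 ≤ k by omega) with rfl | h3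
    · norm_num at hUcard
    · have := Nat.pow_le_pow_right (show 0 < 2 by norm_num) h3
      omega

/-- The simple normal subgroups. -/
theorem five_case (hc : Nat.card (S : Subgroup G) = 32) (M : Subgroup G) [IsSimpleGroup M]
    (hna : ¬ IsMulCommutative M) (hSM : (S : Subgroup G) ≤ M) :
    ∃ (F : Type) (_ : Field F) (_ : Fintype F), Fintype.card F = 32 ∧ Nonempty (M ≃* P2 F) := by
  haveI : Fact (Nat.Prime 2) := ⟨Nat.prime_two⟩
  set P : Sylow 2 M := S.subtype hSM
  have hPc : IsMulCommutative (P : Subgroup M) := ⟨⟨fun a b => Subtype.ext (Subtype.ext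
    (EqOrder.sylow_comm S hS (show ((a : M) : G) ∈ (S : Subgroup G) from a.2) b.2).eq)⟩⟩
  have hsolv : ∀ v : M, orderOf v = 2 → Group.IsSolvable ↥(centralizer ({v} : Set M)) := by
    intro v hv
    obtain ⟨P', hP'⟩ := (IsPGroup.of_card (n := 1) (by rw [Nat.card_zpowers, hv, pow_one]) :
      IsPGroup 2 (zpowers v)).exists_le_sylow
    obtain ⟨g, hg⟩ := MulAction.exists_smul_eq M P' P
    have hgv : g * v * g⁻¹ ∈ (P : Subgroup M) := by
      rw [← hg, Sylow.coe_subgroup_smul]
      exact ⟨v, hP' (mem_zpowers v), rfl⟩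
    set s : G := ((g * v * g⁻¹ : M) : G)
    have hs1 : s ≠ 1 := fun e => by
      rw [show v = 1 from conj_eq_one_iff.1 (Subtype.ext e : g * v * g⁻¹ = 1), orderOf_one] at hv
      omega
    haveI := solvable_cent hS hA (t := s) hgv hs1
    let φ : ↥(centralizer ({v} : Set M)) →* ↥(centralizer ({s} : Set G)) :=
      ((M.subtype.comp (MulAut.conj g).toMonoidHom).comp (centralizer ({v} : Set M)).subtype).codRestrict _ fun z => by
        refine mem_centralizer_singleton_iff.2 ?_
        show ((g * (z : M) * g⁻¹ : M) : G) * s = s * ((g * (z : M) * g⁻¹ : M) : G)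
        rw [← Subgroup.coe_mul, ← Subgroup.coe_mul, conj_mul, conj_mul, mem_centralizer_singleton_iff.1 z.2]
    exact Group.isSolvable_of_isSolvable_injective (f := φ)
      fun a b hab => Subtype.ext ((MulAut.conj g).injective (Subtype.ext (congrArg Subtype.val hab :)))
  obtain ⟨F, i1, i2, hF, ⟨e⟩⟩ := AbelianSolvCent.simple_case Bender.Consumers.structure_all GW.Top.statement
    hna P hPc hsolv
  refine ⟨F, i1, i2, ?_, ⟨e⟩⟩
  set T : Sylow 2 (P2 F) := P.mapSurjective (f := e.toMonoidHom) e.surjective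
  have hT : Nat.card (T : Subgroup (P2 F)) = 32 := by
    rw [show (T : Subgroup (P2 F)) = (P : Subgroup M).map e.toMonoidHom from rfl,
      card_map_of_injective e.injective]
    exact (Nat.card_congr (subgroupOfEquivOfLe hSM).toEquiv).trans hc
  have hmul := (T : Subgroup (P2 F)).card_mul_index
  have hodd : ¬ 2 ∣ (T : Subgroup (P2 F)).index := T.not_dvd_index
  rw [hT] at hmul
  rcases hF with ⟨h8, -⟩ | ⟨m, hm, hm'⟩
  · exfalso
    have h2 := PSL.two_mul_card (F := F) (Nat.odd_iff.2 (by omega))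
    obtain ⟨w, hw⟩ : ∃ w, Fintype.card F = 8 * w + 3 ∨ Fintype.card F = 8 * w + 5 :=
      ⟨Fintype.card F / 8, by omega⟩
    rw [← hmul] at h2
    have key : ∀ a b c : ℕ, Odd a → Odd b → Odd c →
        2 * (32 * (T : Subgroup (P2 F)).index) = 8 * (a * (b * c)) → False := fun a b c ha hb hc h => by
      obtain ⟨j, hj⟩ := ha.mul (hb.mul hc)
      omega
    rcases hw with hw | hw <;> rw [hw] at h2
    · refine key (8 * w + 3) (4 * w + 1) (2 * w + 1) ⟨4 * w + 1, by ring⟩ ⟨2 * w, by ring⟩ ⟨w, rfl⟩ ?_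
      rw [show 8 * w + 3 - 1 = 8 * w + 2 by omega] at h2
      linarith [show (8 * w + 3) * ((8 * w + 2) * (8 * w + 3 + 1)) =
        8 * ((8 * w + 3) * ((4 * w + 1) * (2 * w + 1))) by ring]
    · refine key (8 * w + 5) (2 * w + 1) (4 * w + 3) ⟨4 * w + 2, by ring⟩ ⟨w, rfl⟩ ⟨2 * w + 1, by ring⟩ ?_
      rw [show 8 * w + 5 - 1 = 8 * w + 4 by omega] at h2
      linarith [show (8 * w + 5) * ((8 * w + 4) * (8 * w + 5 + 1)) =
        8 * ((8 * w + 5) * ((2 * w + 1) * (4 * w + 3))) by ring]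
  · have h1 := Linear.Small.card_psl_two (F := F) hm'
    have h2 : 2 ≤ 2 ^ m := Nat.le_self_pow (by omega) 2
    have hg : Nat.gcd 2 (2 ^ m - 1) = 1 := Nat.coprime_two_left.2
      (Nat.Even.sub_odd (by omega) (Even.pow_of_ne_zero even_two (by omega)) odd_one)
    rw [hg, one_mul, show (2 ^ m) ^ 2 - 2 ^ m = (2 ^ m - 1) * 2 ^ m by rw [sq, Nat.sub_mul, one_mul]] at h1
    have hcP : Nat.card (P2 F) = ((2 ^ m) ^ 2 - 1) * 2 ^ m :=
      Nat.eq_of_mul_eq_mul_left (show 0 < 2 ^ m - 1 by omega) (h1.trans (by ring))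
    have hoddm : ¬ 2 ∣ (2 ^ m) ^ 2 - 1 := by
      have h3 : 2 ∣ (2 ^ m) ^ 2 := dvd_pow (dvd_pow_self 2 (by omega)) two_ne_zero
      have h4 : 1 ≤ (2 ^ m) ^ 2 := Nat.one_le_pow _ _ (Nat.two_pow_pos m)
      omega
    rw [hcP, show (32 : ℕ) = 2 ^ 5 by norm_num] at hmul
    rw [hm', show (32 : ℕ) = 2 ^ 5 by norm_num]
    refine Nat.dvd_antisymm ?_ ?_
    · exact (Nat.Coprime.pow_left m ((Nat.Prime.coprime_iff_not_dvd Nat.prime_two).2 hodd)).dvd_of_dvd_mul_right
        (hmul ▸ dvd_mul_left _ _)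
    · exact (Nat.Coprime.pow_left 5 ((Nat.Prime.coprime_iff_not_dvd Nat.prime_two).2 hoddm)).dvd_of_dvd_mul_left
        (hmul ▸ dvd_mul_right _ _)

end CfsgLib.EightCore.Rows
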