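import Cfsg.Agent.EightCore.Rows.PConj
import Cfsg.Agent.ExtPrim.MinNormal
import Cfsg.Agent.Perm.MinimalNormal

/-!
# Groups in which `p`-subgroups of equal order are conjugate: the minimal normal subgroup
-/

set_option autoImplicit false
set_option linter.unusedSectionVars false
set_option linter.style.haveILetI false

namespace CfsgLib.EightCore.Rows

open Subgroup
open CfsgLib.ExtPrim

universe u

variable {G : Type u} [Group G] [Finite G]

/-- The normal simple subgroup when the Sylow subgroup is not normal. -/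
theorem exists_simple (h : PConj G) (hO : Cfsg.oddCore G = ⊥) (S : Sylow 2 G)
    (hS : ∀ x ∈ (S : Subgroup G), x * x = 1) (h2 : 2 ∣ Nat.card (S : Subgroup G))
    (hnn : ¬ (S : Subgroup G).Normal) :
    ∃ M : Subgroup G, M.Normal ∧ IsSimpleGroup M ∧ ¬ IsMulCommutative M ∧
      centralizer (M : Set G) = ⊥ := by
  haveI : Fact (Nat.Prime 2) := ⟨Nat.prime_two⟩
  classical
  -- an even normal subgroup
  have heven : ∀ N : Subgroup G, N.Normal → N ≠ ⊥ → ∃ t ∈ N, orderOf t = 2 := by
    intro N hN hN1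
    have hd : 2 ∣ Nat.card N := by
      by_contra hcon
      exact hN1 (le_bot_iff.1 ((DGroup.le_oddCore hN (Nat.odd_iff.2 (Nat.two_dvd_ne_zero.1 hcon))).trans hO.le))
    obtain ⟨⟨t, htN⟩, ht⟩ := exists_prime_orderOf_dvd_card' 2 hd
    exact ⟨t, htN, by rw [Subgroup.orderOf_mk] at ht; exact ht⟩
  haveI : Nontrivial G := by
    obtain ⟨x, hx⟩ := exists_prime_orderOf_dvd_card' (G := (S : Subgroup G)) 2 h2
    exact ⟨⟨(x : G), 1, fun e => by rw [← orderOf_coe, e, orderOf_one] at hx; omega⟩⟩
  obtain ⟨M, hMn, hM1, -, hmin⟩ := CfsgLib.Solvable.exists_minimal_normal_le (N := (⊤ : Subgroup G)) top_ne_bot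
  haveI := hMn
  have hMna : ¬ IsMulCommutative M := by
    intro hcomm
    haveI := hcomm
    obtain ⟨W, hWn, hW1, hWM, -, -, p, hp, hexp, hWp⟩ := CfsgLib.Solvable.exists_normal_elementary_le hM1
      (Group.isSolvable_of_comm fun a b => hcomm.is_comm.comm a b)
    haveI := hWn
    obtain ⟨t, htW, ht⟩ := heven W hWn hW1
    have hp2 : p = 2 := by
      have h1 : orderOf t ∣ p := orderOf_dvd_of_pow_eq_one (hexp t htW)
      rw [ht] at h1
      exact ((Nat.prime_dvd_prime_iff_eq Nat.prime_two hp).1 h1).symm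
    subst hp2
    refine hnn ?_
    rw [← S.is_maximal' hWp (le_normal h.pab S hS htW ht)]
    exact hWn
  obtain ⟨T, hT⟩ := exists_isFactor M hM1 hmin hMna
  haveI := hT.simple
  obtain ⟨a, b, hab⟩ := exists_pair hT.nonab
  set t : G := (a : G)
  have ht : orderOf t = 2 := by rw [orderOf_coe]; exact hab.ha
  have hoth : others T = ⊥ := by
    refine le_bot_iff.1 (iSup₂_le fun g hg => ?_)
    exfalso
    obtain ⟨c, hc⟩ : ∃ c ∈ cj g T, orderOf c = 2 := ⟨g * t * g⁻¹, conj_mem_cj a.2,
      (orderOf_injective (MulAut.conj g).toMonoidHom (MulAut.conj g).injective t).trans ht⟩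
    obtain ⟨hc1, hc2⟩ := hc
    have hco : c ∈ others T := cj_le_others hg hc1
    have hne : t * c ≠ 1 := fun e => by
      have : t ∈ T ⊓ others T := mem_inf.2 ⟨a.2, by rw [eq_inv_of_mul_eq_one_left e]; exact inv_mem hco⟩
      rw [hT.inf_others, mem_bot] at this
      rw [this, orderOf_one] at ht
      omega
    have htc : orderOf (t * c) = 2 := by
      refine orderOf_eq_prime ?_ hne
      have h1 : ∀ y : G, orderOf y = 2 → y ^ 2 = 1 := fun y hy => orderOf_dvd_iff_pow_eq_one.1 hy.dvd
      rw [(hT.commute a.2 hco).mul_pow, h1 t ht, h1 c hc2, one_mul]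
    obtain ⟨x, hx⟩ := h.conj_zpowers (p := 2) (k := 1) (x := t) (y := t * c) (by rw [ht]; rfl)
      (by rw [htc]; rfl)
    obtain ⟨w, hw, hwe⟩ : t * c ∈ (zpowers t).map (MulAut.conj x).toMonoidHom := hx ▸ mem_zpowers _
    have hwT : w ∈ T := (zpowers_le.2 a.2) hw
    have hm : t * c ∈ cj x T := hwe ▸ conj_mem_cj hwT
    by_cases hxT : cj x T = T
    · rw [hxT] at hm
      have : c ∈ T ⊓ others T := mem_inf.2 ⟨by
        have h3 := mul_mem (inv_mem a.2) hm
        rwa [show (t : G)⁻¹ * (t * c) = c from inv_mul_cancel_left t c] at h3, hco⟩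
      rw [hT.inf_others, mem_bot] at this
      rw [this, orderOf_one] at hc2
      omega
    · have h1 : t ∈ T ⊓ others T := mem_inf.2 ⟨a.2, by
        have h2 := mul_mem (cj_le_others hxT hm) (inv_mem hco)
        rwa [mul_inv_cancel_right] at h2⟩
      rw [hT.inf_others, mem_bot] at h1
      rw [h1, orderOf_one] at ht
      omega
  have hTM : T = M := by rw [← hT.sup_others, hoth, sup_bot_eq]
  subst hTM
  refine ⟨T, hMn, hT.simple, hT.nonab, by_contra fun hC => ?_⟩
  obtain ⟨v, hvC, hv⟩ := heven (centralizer (T : Set G)) inferInstance hC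
  have haC : t ∈ centralizer (T : Set G) := mem_of_orderOf h.pab (p := 2) (k := 1) hvC (by rw [hv]; rfl)
    (by rw [ht]; rfl)
  have haZ : a ∈ center T := mem_center_iff.2 fun z => Subtype.ext (mem_centralizer_iff.1 haC z z.2)
  rcases (inferInstance : (center T).Normal).eq_bot_or_eq_top with hb | htop
  · rw [hb, mem_bot] at haZ
    rw [show t = 1 from congrArg Subtype.val haZ, orderOf_one] at ht
    omega
  · exact hT.nonab ⟨⟨fun x y => mem_center_iff.1 (htop ▸ mem_top y) x⟩⟩

end CfsgLib.EightCore.Rows
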