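import Cfsg.Agent.EightCore.Rows.Five
import Cfsg.Prelude.Def_Spor_J1

/-!
# The consumers of the core theorem: the simple normal subgroups
-/

set_option autoImplicit false
set_option linter.unusedSectionVars false
set_option linter.style.haveILetI false

namespace CfsgLib.EightCore.Rows

open Subgroup
open CfsgLib.Linear.SmallSub (P2)

universe u

/-- The core theorem used for Sylow 2-subgroups of order eight. -/
def ThreeCase : Prop :=
  ∀ (X : Type u) [Group X] [Finite X] [IsSimpleGroup X], AutConj X → ∀ S : Sylow 2 X,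
    (∀ x ∈ (S : Subgroup X), x * x = 1) → Nat.card (S : Subgroup X) = 8 →
    (∃ (F : Type) (_ : Field F) (_ : Fintype F), Fintype.card F = 8 ∧
      Nonempty (X ≃* Matrix.ProjectiveSpecialLinearGroup (Fin 2) F)) ∨ Cfsg.Spor.IsoJ1 X

variable {G : Type u} [Group G] [Finite G]

/-- Subgroups of an elementary Sylow subgroup of equal order are fused in its normaliser. -/
theorem fus (h : PAbConj G) (S : Sylow 2 G) (hS : ∀ x ∈ (S : Subgroup G), x * x = 1) :
    ∀ H K : Subgroup ↥(normalizer ((S : Subgroup G) : Set G)),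
      H ≤ (S : Subgroup G).subgroupOf _ → K ≤ (S : Subgroup G).subgroupOf _ → Nat.card H = Nat.card K →
      ∃ x : ↥(normalizer ((S : Subgroup G) : Set G)), K = H.map (MulAut.conj x).toMonoidHom := by
  haveI : Fact (Nat.Prime 2) := ⟨Nat.prime_two⟩
  set N := normalizer ((S : Subgroup G) : Set G)
  intro H K hH hK hHK
  have hH' : H.map N.subtype ≤ (S : Subgroup G) := by rintro _ ⟨x, hx, rfl⟩; exact hH hx
  have hK' : K.map N.subtype ≤ (S : Subgroup G) := by rintro _ ⟨x, hx, rfl⟩; exact hK hx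
  have hab : ∀ L : Subgroup G, L ≤ (S : Subgroup G) → IsMulCommutative L := fun L hL =>
    ⟨⟨fun a b => Subtype.ext (EqOrder.sylow_comm S hS (hL a.2) (hL b.2))⟩⟩
  obtain ⟨g, hg⟩ := h 2 Nat.prime_two (H.map N.subtype) (K.map N.subtype) (S.2.to_le hH') (S.2.to_le hK')
    (hab _ hH') (hab _ hK')
    (by rw [card_map_of_injective N.subtype_injective, card_map_of_injective N.subtype_injective, hHK])
  obtain ⟨m, hm, hm'⟩ := CfsgLib.ConjP.fused_in_normalizer S
    ⟨⟨fun a b => Subtype.ext (EqOrder.sylow_comm S hS a.2 b.2)⟩⟩ hH' hK' hg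
  refine ⟨⟨m, hm⟩, map_injective N.subtype_injective ?_⟩
  rw [hm', Subgroup.map_map, Subgroup.map_map]
  rfl

/-- The order of the Sylow subgroup and the automiser. -/
theorem norm_shape (h : PAbConj G) (S : Sylow 2 G) (hS : ∀ x ∈ (S : Subgroup G), x * x = 1) {n : ℕ}
    (hn : 3 ≤ n) (hc : Nat.card (S : Subgroup G) = 2 ^ n) :
    n = 3 ∨ (n = 5 ∧ Nonempty (↥(normalizer ((S : Subgroup G) : Set G)) ⧸
      Cfsg.pPrimeCore 2 ↥(normalizer ((S : Subgroup G) : Set G)) ≃*
        Cfsg.semiaffineGroup (GaloisField 2 5))) := by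
  haveI : Fact (Nat.Prime 2) := ⟨Nat.prime_two⟩
  set N := normalizer ((S : Subgroup G) : Set G)
  set Q := S.subtype (show (S : Subgroup G) ≤ N from le_normalizer)
  haveI : (Q : Subgroup N).Normal := (normal_subgroupOf_iff_le_normalizer le_normalizer).2 le_rfl
  haveI := EqOrder.isSolvable_of_normal_sylow Q
  have hel : Cfsg.IsElementaryAbelian 2 (Q : Subgroup N) :=
    ⟨⟨⟨fun a b => Subtype.ext (Subtype.ext (EqOrder.sylow_comm S hS
      (show ((a : N) : G) ∈ _ from a.2) b.2))⟩⟩,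
      fun a ha => Subtype.ext (by rw [SubmonoidClass.coe_pow, sq]; exact hS _ ha)⟩
  have hQc : Nat.card (Q : Subgroup N) = 2 ^ n :=
    (Nat.card_congr (subgroupOfEquivOfLe le_normalizer).toEquiv).trans hc
  rcases CfsgLib.ConjP.normal_case (Q : Subgroup N) Q.card_coprime_index hel hn hQc inferInstance (fus h S hS)
    with ⟨e, -, -⟩ | ⟨e, -, q⟩
  · exact Or.inl e
  · exact Or.inr ⟨e, q⟩

/-- A simple group with a Klein four Sylow subgroup. -/
theorem four_case {L : Type u} [Group L] [Finite L] [IsSimpleGroup L] (hna : ¬ IsMulCommutative L)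
    (P : Sylow 2 L) (h4 : Nat.card (P : Subgroup L) = 4) (hsq : ∀ x ∈ (P : Subgroup L), x * x = 1) :
    ∃ (F : Type) (_ : Field F) (_ : Fintype F), 5 ≤ Fintype.card F ∧
      (Fintype.card F % 8 = 3 ∨ Fintype.card F % 8 = 5) ∧
      Nonempty (L ≃* Matrix.ProjectiveSpecialLinearGroup (Fin 2) F) := by
  haveI : Fact (Nat.Prime 2) := ⟨Nat.prime_two⟩
  haveI : Nontrivial (P : Subgroup L) := Finite.one_lt_card_iff_nontrivial.1 (by omega)
  haveI : IsKleinFour (P : Subgroup L) := ⟨h4, (Monoid.exponent_eq_prime_iff Nat.prime_two).2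
    fun g hg => orderOf_eq_prime (Subtype.ext (by rw [Subgroup.coe_pow, sq]; exact hsq g g.2)) hg⟩
  obtain ⟨eD⟩ := (IsKleinFour.nonempty_mulEquiv : Nonempty ((P : Subgroup L) ≃* DihedralGroup 2))
  haveI : Group.IsPerfect L := ⟨(IsSimpleGroup.eq_bot_or_eq_top_of_normal _
    (inferInstance : (commutator L).Normal)).resolve_left fun h => hna ⟨⟨fun a b =>
      commutatorElement_eq_one_iff_mul_comm.1 (mem_bot.1 (h ▸ by
        rw [_root_.commutator_def]
        exact commutator_mem_commutator (mem_top a) (mem_top b)))⟩⟩⟩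
  have hO : Cfsg.oddCore L = ⊥ := by
    rcases (DGroup.normal_oddCore L).eq_bot_or_eq_top with h | h
    · exact h
    · exfalso
      have h1 := DGroup.odd_oddCore L
      rw [h, card_top, ← (P : Subgroup L).index_mul_card, h4, Nat.odd_mul] at h1
      exact absurd h1.2 (by decide)
  let bot : L ⧸ Cfsg.oddCore L ≃* L :=
    (QuotientGroup.quotientMulEquivOfEq hO).trans QuotientGroup.quotientBot
  rcases GW.Top.statement L P 2 le_rfl ⟨eD⟩ with ⟨F, i1, i2, hodd, h3, ⟨q⟩⟩ | ⟨⟨q⟩⟩
  · refine ⟨F, i1, i2, ?_, AbelianSolvCent.q_mod_eight hodd P h4 (bot.symm.trans q), ⟨bot.symm.trans q⟩⟩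
    obtain ⟨d, hd⟩ := hodd
    omega
  · exfalso
    have h8 : 2 ^ 3 ∣ Nat.card L := by
      rw [Nat.card_congr (bot.symm.trans q).toEquiv, nat_card_alternatingGroup, Nat.card_fin]
      norm_num [Nat.factorial]
    obtain ⟨A, hA⟩ := Sylow.exists_subgroup_card_pow_prime 2 h8
    obtain ⟨B, hB⟩ := (IsPGroup.of_card hA).exists_le_sylow
    have := card_dvd_of_le hB
    rw [hA, Nat.card_congr (B.equiv P).toEquiv, h4] at this
    norm_num at this

/-- The simple normal subgroups of a group in which abelian `p`-subgroups of equal order are conjugate. -/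
theorem simple_cases (hT : ThreeCase.{u}) (h : PAbConj G) (M : Subgroup G) [M.Normal] [IsSimpleGroup M]
    (hna : ¬ IsMulCommutative M) (S : Sylow 2 G) {n : ℕ} (d : Data M S n) :
    (n = 2 ∧ ∃ (F : Type) (_ : Field F) (_ : Fintype F), 5 ≤ Fintype.card F ∧
      (Fintype.card F % 8 = 3 ∨ Fintype.card F % 8 = 5) ∧
      Nonempty (M ≃* Matrix.ProjectiveSpecialLinearGroup (Fin 2) F)) ∨
    (n = 3 ∧ ((∃ (F : Type) (_ : Field F) (_ : Fintype F), Fintype.card F = 8 ∧
      Nonempty (M ≃* Matrix.ProjectiveSpecialLinearGroup (Fin 2) F)) ∨ Cfsg.Spor.IsoJ1 M)) ∨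
    (n = 5 ∧ (∃ (F : Type) (_ : Field F) (_ : Fintype F), Fintype.card F = 32 ∧
      Nonempty (M ≃* Matrix.ProjectiveSpecialLinearGroup (Fin 2) F)) ∧ 5 ∣ Nat.card G) := by
  haveI : Fact (Nat.Prime 2) := ⟨Nat.prime_two⟩
  set P : Sylow 2 M := S.subtype d.le
  have hPsq : ∀ x ∈ (P : Subgroup M), x * x = 1 := fun x hx => Subtype.ext (d.sq _ hx)
  have hPc : Nat.card (P : Subgroup M) = 2 ^ n :=
    (Nat.card_congr (subgroupOfEquivOfLe d.le).toEquiv).trans d.card
  rcases eq_or_lt_of_le d.two with rfl | hn3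
  · exact Or.inl ⟨rfl, four_case hna P (hPc.trans (by norm_num)) hPsq⟩
  rcases norm_shape h S d.sq hn3 d.card with rfl | ⟨rfl, q⟩
  · exact Or.inr (Or.inl ⟨rfl, hT M (h.autConj M) P hPsq (hPc.trans (by norm_num))⟩)
  · refine Or.inr (Or.inr ⟨rfl, ?_, ?_⟩)
    · exact five_case d.sq (auto32 S d.sq (d.card.trans (by norm_num)) q) (d.card.trans (by norm_num)) M hna d.le
    · obtain ⟨q⟩ := q
      refine EqOrder.five_dvd_semiaffine.trans ?_
      rw [← Nat.card_congr q.toEquiv]
      exact (card_quotient_dvd_card _).trans (card_subgroup_dvd_card _)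

end CfsgLib.EightCore.Rows
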